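import Mathlib.Algebra.Algebra.Operations
import Mathlib.LinearAlgebra.Dual.Lemmas
import Mathlib.LinearAlgebra.FiniteDimensional.Lemmas

/-!
# A local symmetric algebra with at most four independent traces is commutative

Külshammer's argument: the commutators `C` lie in `J * J` and miss the socle, so `J / J²` has
dimension at most two.  If it is two and `J³ ≠ 0` then `J² = k [x, y] + J³`, and associativity
forces `J³ ⊆ J⁴`.  A commutative algebra is no larger than its space of traces.  The algebra is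
the corner `f A f` of an idempotent.
-/

set_option autoImplicit false

namespace CfsgLib.IBr

variable {k A : Type*} [Field k] [Ring A] [Algebra k A]

/-- The compression by an idempotent. -/
noncomputable def compr (k : Type*) {A : Type*} [Field k] [Ring A] [Algebra k A] (f : A) :
    A →ₗ[k] A :=
  LinearMap.mulLeft k f ∘ₗ LinearMap.mulRight k f

theorem compr_apply (f x : A) : compr k f x = f * x * f := by
  simp [compr, mul_assoc]

theorem mem_range_compr {f : A} (hf : f * f = f) {a : A} :
    a ∈ LinearMap.range (compr k f) ↔ f * a * f = a := by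
  refine ⟨?_, fun h => ⟨a, by rw [compr_apply, h]⟩⟩
  rintro ⟨x, rfl⟩
  rw [compr_apply, show f * (f * x * f) * f = (f * f) * x * (f * f) by simp only [mul_assoc], hf]

theorem left_mul_of_mem {f : A} (hf : f * f = f) {a : A} (ha : a ∈ LinearMap.range (compr k f)) :
    f * a = a := by
  have h := (mem_range_compr hf).1 ha
  rw [← h]
  simp only [← mul_assoc, hf]

theorem right_mul_of_mem {f : A} (hf : f * f = f) {a : A} (ha : a ∈ LinearMap.range (compr k f)) :
    a * f = a := by
  have h := (mem_range_compr hf).1 ha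
  rw [← h]
  simp only [mul_assoc, hf]

theorem mul_mem_corner {f : A} (hf : f * f = f) {a b : A} (ha : a ∈ LinearMap.range (compr k f))
    (hb : b ∈ LinearMap.range (compr k f)) : a * b ∈ LinearMap.range (compr k f) := by
  rw [mem_range_compr hf, ← mul_assoc, left_mul_of_mem hf ha, mul_assoc, right_mul_of_mem hf hb]

/-- A radical spanned modulo its square by one element is commutative. -/
theorem commute_of_generated {J : Submodule k A} (hJJ : J * J ≤ J) {t : A} (htJ : t ∈ J)
    (hgen : J ≤ Submodule.span k {t} ⊔ J * J) {N : ℕ} (hN : J ^ (N + 1) = ⊥) :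
    ∀ a ∈ J, ∀ b ∈ J, a * b = b * a := by
  set P := Submodule.span k (Set.range fun i : ℕ => t ^ (i + 1)) with hP
  have htP : Submodule.span k {t} ≤ P :=
    Submodule.span_le.2 (Set.singleton_subset_iff.2 (Submodule.subset_span ⟨0, by simp⟩))
  have hPP : P * P ≤ P := by
    rw [hP, Submodule.span_mul_span, Submodule.span_le]
    rintro _ ⟨_, ⟨i, rfl⟩, _, ⟨j, rfl⟩, rfl⟩
    exact Submodule.subset_span ⟨i + j + 1, by
      show t ^ (i + j + 1 + 1) = t ^ (i + 1) * t ^ (j + 1)
      rw [← pow_add]; congr 1; omega⟩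
  have hPJ : P ≤ J := by
    rw [hP, Submodule.span_le]
    rintro _ ⟨i, rfl⟩
    induction i with
    | zero => simpa using htJ
    | succ i ih =>
      show t ^ (i + 1 + 1) ∈ J
      rw [pow_succ]
      exact hJJ (Submodule.mul_mem_mul ih htJ)
  have hJP : ∀ n, 1 ≤ n → J ≤ P ⊔ J ^ n := by
    intro n hn
    induction n with
    | zero => omega
    | succ n ih =>
      rcases Nat.eq_zero_or_pos n with rfl | hn'
      · simp
      have ih' := ih hn'
      refine hgen.trans (sup_le (le_sup_of_le_left htP) ?_)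
      refine (mul_le_mul' le_rfl ih').trans ?_
      rw [Submodule.mul_sup]
      refine sup_le ?_ (le_sup_of_le_right (le_of_eq (pow_succ' J n).symm))
      refine (mul_le_mul' ih' le_rfl).trans ?_
      rw [Submodule.sup_mul]
      refine sup_le (le_sup_of_le_left hPP) (le_sup_of_le_right ?_)
      rw [pow_succ]
      exact mul_le_mul' le_rfl hPJ
  have hle : J ≤ P := by
    have h := hJP (N + 1) (by omega)
    rwa [hN, sup_bot_eq] at h
  intro a ha b hb
  have ha' := hle ha
  have hb' := hle hb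
  clear ha hb
  induction ha' using Submodule.span_induction with
  | mem x hx =>
    induction hb' using Submodule.span_induction with
    | mem y hy =>
      obtain ⟨i, rfl⟩ := hx; obtain ⟨j, rfl⟩ := hy
      exact (Commute.pow_pow (Commute.refl t) _ _).eq
    | zero => simp
    | add y z _ _ hy hz => rw [mul_add, add_mul, hy, hz]
    | smul r y _ hy => rw [mul_smul_comm, smul_mul_assoc, hy]
  | zero => simp
  | add x y _ _ hx hy => rw [add_mul, mul_add, hx, hy]
  | smul r x _ hx => rw [mul_smul_comm, smul_mul_assoc, hx]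

/-- If `J² = k (x y - y x) + J³` with `J = k x + k y + J²` then `J³ ≤ J⁴`. -/
theorem cube_le_fourth {J : Submodule k A} (hJJ : J * J ≤ J) {x y : A} (hx : x ∈ J) (hy : y ∈ J)
    (hgen : J ≤ Submodule.span k {x, y} ⊔ J * J)
    (hsq : J * J ≤ Submodule.span k {x * y - y * x} ⊔ J ^ 3) : J ^ 3 ≤ J ^ 4 := by
  set c := x * y - y * x with hc
  set q := (J ^ 4).mkQ with hq
  have hpow2 : J * J = J ^ 2 := (pow_two J).symm
  have hq0 : ∀ {z : A}, z ∈ J ^ 4 → q z = 0 := fun hz => (Submodule.Quotient.mk_eq_zero _).2 hz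
  have hcoef : ∀ u ∈ J, ∀ v ∈ J, ∃ r : k, u * v - r • c ∈ J ^ 3 := by
    intro u hu v hv
    obtain ⟨a, ha, b, hb, hab⟩ := Submodule.mem_sup.1 (hsq (Submodule.mul_mem_mul hu hv))
    obtain ⟨r, rfl⟩ := Submodule.mem_span_singleton.1 ha
    exact ⟨r, by rw [← hab]; simpa using hb⟩
  obtain ⟨a, ha⟩ := hcoef x hx x hx
  obtain ⟨b, hb⟩ := hcoef x hx y hy
  obtain ⟨d, hd⟩ := hcoef y hy y hy
  have hb' : y * x - (b - 1) • c ∈ J ^ 3 := by
    rw [sub_smul, one_smul, show y * x - (b • c - c) = x * y - b • c by rw [hc]; abel]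
    exact hb
  -- associativity modulo the fourth power
  have hassoc : ∀ {u v w : A} {r r' : k}, u ∈ J → v ∈ J → w ∈ J → u * v - r • c ∈ J ^ 3 →
      v * w - r' • c ∈ J ^ 3 → r • q (c * w) = r' • q (u * c) := by
    intro u v w r r' hu _ hw h h'
    have e1 : q (u * v * w) = r • q (c * w) := by
      have h4 : (u * v - r • c) * w ∈ J ^ 4 := by
        rw [pow_succ]
        exact Submodule.mul_mem_mul h hw
      rw [← map_smul, ← sub_eq_zero, ← map_sub, ← smul_mul_assoc, ← sub_mul]
      exact hq0 h4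
    have e2 : q (u * v * w) = r' • q (u * c) := by
      have h4 : u * (v * w - r' • c) ∈ J ^ 4 := by
        rw [pow_succ']
        exact Submodule.mul_mem_mul hu h'
      rw [← map_smul, ← sub_eq_zero, ← map_sub, mul_assoc, ← mul_smul_comm, ← mul_sub]
      exact hq0 h4
    rw [← e1, e2]
  have xxx := hassoc hx hx hx ha ha
  have xxy := hassoc hx hx hy ha hb
  have xyx := hassoc hx hy hx hb hb'
  have xyy := hassoc hx hy hy hb hd
  have yxx := hassoc hy hx hx hb' ha
  have yxy := hassoc hy hx hy hb' hb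
  have yyx := hassoc hy hy hx hd hb'
  have yyy := hassoc hy hy hy hd hd
  set X := q (x * c)
  set Y := q (y * c)
  set P := q (c * x)
  set Q := q (c * y)
  have haX : a • X = 0 := by
    have h1 : (a * (b - 1)) • X = (a * b) • X := by
      rw [mul_smul, ← xyx, smul_comm, xxx, smul_comm, ← mul_smul]
    rw [← sub_eq_zero, ← sub_smul, show a * (b - 1) - a * b = -a by ring, neg_smul, neg_eq_zero] at h1
    exact h1
  have hbX : b • X = 0 := by
    have h1 : (b * b) • X = (d * a) • X := by
      rw [mul_smul, ← xxy, smul_comm, xyy, smul_comm, ← mul_smul]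
    rw [mul_smul d, haX, smul_zero] at h1
    by_cases hb0 : b = 0
    · rw [hb0, zero_smul]
    · rw [(smul_eq_zero.1 h1).resolve_left (mul_ne_zero hb0 hb0), smul_zero]
  have hX : X = 0 := by
    by_cases hb0 : b = 0
    · rw [hb0, zero_smul, eq_comm] at xyx
      exact (smul_eq_zero.1 xyx).resolve_left (by simp)
    · exact (smul_eq_zero.1 hbX).resolve_left hb0
  simp only [hX, smul_zero] at xxy xyy xxx xyx
  have hY : Y = 0 := by
    by_cases hb0 : b = 0
    · have hQ : Q = 0 := by
        rw [hb0, zero_smul] at yxy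
        exact (smul_eq_zero.1 yxy).resolve_left (by simp)
      have haY : a • Y = 0 := by
        by_cases ha0 : a = 0
        · rw [ha0, zero_smul]
        · rw [← yxx, (smul_eq_zero.1 xxx).resolve_left ha0, smul_zero]
      have hP : P = 0 := by
        rw [haY, hb0] at yxx
        exact (smul_eq_zero.1 yxx).resolve_left (by simp)
      rw [hP, hb0, smul_zero, eq_comm] at yyx
      exact (smul_eq_zero.1 yyx).resolve_left (by simp)
    · have hQ : Q = 0 := (smul_eq_zero.1 xyy).resolve_left hb0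
      rw [hQ, smul_zero, eq_comm] at yxy
      exact (smul_eq_zero.1 yxy).resolve_left hb0
  -- spanning
  have hgen3 : ∀ u ∈ J, ∀ w ∈ J * J, q (u * w) = 0 := by
    intro u hu w hw
    obtain ⟨w1, hw1, w3, hw3, rfl⟩ := Submodule.mem_sup.1 (hsq hw)
    obtain ⟨r, rfl⟩ := Submodule.mem_span_singleton.1 hw1
    obtain ⟨u1, hu1, u2, hu2, rfl⟩ := Submodule.mem_sup.1 (hgen hu)
    obtain ⟨α, β, rfl⟩ := Submodule.mem_span_pair.1 hu1
    have hcJ : c ∈ J ^ 2 := by
      rw [pow_two, hc]
      exact sub_mem (Submodule.mul_mem_mul hx hy) (Submodule.mul_mem_mul hy hx)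
    have hu2' : q (u2 * c) = 0 := hq0 (by
      rw [show (4 : ℕ) = 2 + 2 from rfl, pow_add]
      exact Submodule.mul_mem_mul (hpow2 ▸ hu2) hcJ)
    have h3 : ∀ v ∈ J, q (v * w3) = 0 := fun v hv => hq0 (by
      rw [pow_succ']
      exact Submodule.mul_mem_mul hv hw3)
    have hxy : q ((α • x + β • y) * c) = 0 := by
      rw [add_mul, smul_mul_assoc, smul_mul_assoc, map_add, map_smul, map_smul]
      show α • X + β • Y = 0
      rw [hX, hY, smul_zero, smul_zero, add_zero]
    rw [mul_add, map_add, mul_smul_comm, map_smul, add_mul, map_add, hxy, hu2',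
      h3 _ (add_mem (add_mem (J.smul_mem _ hx) (J.smul_mem _ hy)) (hJJ hu2)), zero_add, smul_zero,
      zero_add]
  rw [pow_succ' J 2, ← hpow2, Submodule.mul_le]
  intro u hu w hw
  exact (Submodule.Quotient.mk_eq_zero _).1 (hgen3 u hu w hw)

/-- A local symmetric corner with traces of dimension at most `m`, where `m ≤ 4` or the radical is
cyclic, has dimension at most `m`. -/
theorem finrank_corner_le [FiniteDimensional k A] {f : A} (hf : f * f = f)
    (π : A →ₗ[k] k) (hπf : π f = 1)
    (hπmul : ∀ a ∈ LinearMap.range (compr k f), ∀ b ∈ LinearMap.range (compr k f),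
      π (a * b) = π a * π b)
    (R : Submodule k A) {N : ℕ} (hR : R ^ N = ⊥)
    (hJR : ∀ a ∈ LinearMap.range (compr k f), π a = 0 → a ∈ R)
    (s : A →ₗ[k] k)
    (hs : ∀ a ∈ LinearMap.range (compr k f), ∀ b ∈ LinearMap.range (compr k f), s (a * b) = s (b * a))
    (hnd : ∀ a ∈ LinearMap.range (compr k f),
      (∀ y ∈ LinearMap.range (compr k f), s (a * y) = 0) → a = 0)
    {m : ℕ} (hm : m ≤ 4 ∨ ∃ t ∈ LinearMap.range (compr k f) ⊓ LinearMap.ker π,
      LinearMap.range (compr k f) ⊓ LinearMap.ker π ≤ Submodule.span k {t} ⊔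
        (LinearMap.range (compr k f) ⊓ LinearMap.ker π) *
          (LinearMap.range (compr k f) ⊓ LinearMap.ker π))
    (htr : ∀ τ : Fin (m + 1) → (A →ₗ[k] k), (∀ i, ∀ a ∈ LinearMap.range (compr k f),
      ∀ b ∈ LinearMap.range (compr k f), τ i (a * b) = τ i (b * a)) →
      ∃ c : Fin (m + 1) → k, c ≠ 0 ∧ ∀ a ∈ LinearMap.range (compr k f), ∑ i, c i * τ i a = 0) :
    Module.finrank k (LinearMap.range (compr k f)) ≤ m := by
  classical
  set U := LinearMap.range (compr k f) with hU
  have hfU : f ∈ U := (mem_range_compr hf).2 (by rw [hf, hf])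
  set J := U ⊓ LinearMap.ker π with hJ
  have hdec : ∀ a ∈ U, a - π a • f ∈ J := fun a ha =>
    ⟨sub_mem ha (U.smul_mem _ hfU), by simp [LinearMap.mem_ker, hπf]⟩
  have hJmul : ∀ a ∈ J, ∀ y ∈ U, a * y ∈ J := fun a ha y hy =>
    ⟨mul_mem_corner hf ha.1 hy, by
      rw [SetLike.mem_coe, LinearMap.mem_ker, hπmul a ha.1 y hy, LinearMap.mem_ker.1 ha.2, zero_mul]⟩
  have hJJ : J * J ≤ J := Submodule.mul_le.2 fun a ha b hb => hJmul a ha b hb.1
  have hJRle : J ≤ R := fun a ha => hJR a ha.1 (LinearMap.mem_ker.1 ha.2)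
  have hJN : J ^ (N + 1) = ⊥ := by
    refine eq_bot_iff.2 ((pow_le_pow_left' hJRle (N + 1)).trans ?_)
    rw [pow_succ, hR, Submodule.bot_mul]
  -- the commutators
  set C := Submodule.span k {x : A | ∃ a ∈ U, ∃ b ∈ U, x = a * b - b * a} with hC
  have hCU : C ≤ U := Submodule.span_le.2 (by
    rintro _ ⟨a, ha, b, hb, rfl⟩
    exact sub_mem (mul_mem_corner hf ha hb) (mul_mem_corner hf hb ha))
  have hcent : ∀ a ∈ U, ∀ b ∈ U, a * b - b * a =
      (a - π a • f) * (b - π b • f) - (b - π b • f) * (a - π a • f) := by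
    intro a ha b hb
    simp only [mul_sub, sub_mul, smul_mul_assoc, mul_smul_comm, left_mul_of_mem hf ha,
      left_mul_of_mem hf hb, right_mul_of_mem hf ha, right_mul_of_mem hf hb, hf]
    simp only [smul_sub, smul_comm (π b) (π a) f]
    abel
  have hCJ2 : C ≤ J * J := by
    rw [hC, Submodule.span_le]
    rintro _ ⟨a, ha, b, hb, rfl⟩
    rw [SetLike.mem_coe, hcent a ha b hb]
    exact sub_mem (Submodule.mul_mem_mul (hdec a ha) (hdec b hb))
      (Submodule.mul_mem_mul (hdec b hb) (hdec a ha))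
  have hCs : ∀ z ∈ C, s z = 0 := by
    intro z hz
    induction hz using Submodule.span_induction with
    | mem x hx => obtain ⟨a, ha, b, hb, rfl⟩ := hx; rw [map_sub, hs a ha b hb, sub_self]
    | zero => exact map_zero s
    | add x y _ _ hx hy => rw [map_add, hx, hy, add_zero]
    | smul r x _ hx => rw [map_smul, hx, smul_zero]
  have hcodim : Module.finrank k U ≤ Module.finrank k C + m := by
    by_contra hlt
    push Not at hlt
    set V := U.map C.mkQ with hV
    have hker : Module.finrank k V + Module.finrank k C = Module.finrank k U := by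
      have h := LinearMap.finrank_range_add_finrank_ker (C.mkQ ∘ₗ U.subtype)
      rw [LinearMap.range_comp, Submodule.range_subtype, LinearMap.ker_comp, Submodule.ker_mkQ] at h
      rwa [(Submodule.comapSubtypeEquivOfLe hCU).finrank_eq] at h
    set bV := Module.finBasis k V
    obtain ⟨ext, hext⟩ : ∃ L : (A ⧸ C) →ₗ[k] V, L ∘ₗ V.subtype = LinearMap.id :=
      V.subtype.exists_leftInverse_of_injective (Submodule.ker_subtype V)
    have hle : m + 1 ≤ Module.finrank k V := by omega
    obtain ⟨c, hc0, hc⟩ := htr (fun i => bV.coord (Fin.castLE hle i) ∘ₗ ext ∘ₗ C.mkQ)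
      (fun i a ha b hb => by
        have h : C.mkQ (a * b) = C.mkQ (b * a) :=
          (Submodule.Quotient.eq C).2 (Submodule.subset_span ⟨a, ha, b, hb, rfl⟩)
        simp only [LinearMap.comp_apply, h])
    refine hc0 (funext fun j => ?_)
    obtain ⟨a, ha, hab⟩ := (bV (Fin.castLE hle j)).2
    have h := hc a ha
    have hea : ext (C.mkQ a) = bV (Fin.castLE hle j) := by
      rw [hab]; exact LinearMap.congr_fun hext _
    simp only [LinearMap.comp_apply, hea, Module.Basis.coord_apply, Module.Basis.repr_self,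
      Finsupp.single_apply] at h
    rw [Finset.sum_eq_single j] at h
    · simpa using h
    · intro i _ hi
      rw [if_neg (fun e => hi ((Fin.castLE_injective hle e).symm)), mul_zero]
    · simp
  suffices hC0 : C = ⊥ by rwa [hC0, finrank_bot, zero_add] at hcodim
  -- commutativity
  have hcomm : (∀ a ∈ J, ∀ b ∈ J, a * b = b * a) → C = ⊥ := by
    intro h
    rw [hC, Submodule.span_eq_bot]
    rintro _ ⟨a, ha, b, hb, rfl⟩
    rw [hcent a ha b hb, h _ (hdec a ha) _ (hdec b hb), sub_self]
  rcases hm with hm | ⟨t, ht, hgen⟩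
  swap
  · exact hcomm (commute_of_generated hJJ ht hgen hJN)
  by_cases hJ0 : J = ⊥
  · exact hcomm fun a ha b hb => by
      rw [hJ0, Submodule.mem_bot] at ha hb
      rw [ha, hb]
  -- the socle
  have hex : ∃ L, J ^ (L + 1) = ⊥ := ⟨N, hJN⟩
  set L := Nat.find hex with hLdef
  have hL : J ^ (L + 1) = ⊥ := Nat.find_spec hex
  have hL1 : 1 ≤ L := by
    by_contra h
    exact hJ0 (by rw [show L = 0 by omega] at hL; simpa using hL)
  have hLmin : J ^ L ≠ ⊥ := by
    have h := Nat.find_min hex (show L - 1 < L by omega)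
    rwa [Nat.sub_add_cancel hL1] at h
  obtain ⟨z, hzL, hz0⟩ := Submodule.exists_mem_ne_zero_of_ne_bot hLmin
  have hpowJ : ∀ n, 1 ≤ n → J ^ n ≤ J := fun n hn => by
    induction n with
    | zero => omega
    | succ n ih =>
      rcases Nat.eq_zero_or_pos n with rfl | hn'
      · simp
      · rw [pow_succ]
        exact (mul_le_mul' (ih hn') le_rfl).trans hJJ
  have hsoc : ∀ w ∈ J, (∀ j ∈ J, w * j = 0) → s w = 0 → w = 0 := by
    intro w hw hwj hsw
    refine hnd w hw.1 fun y hy => ?_
    rw [show y = (y - π y • f) + π y • f by abel, mul_add, hwj _ (hdec y hy), mul_smul_comm,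
      right_mul_of_mem hf hw.1, zero_add, map_smul, hsw, smul_zero]
  have hzj : ∀ j ∈ J, z * j = 0 := fun j hj => by
    have h : z * j ∈ J ^ (L + 1) := by rw [pow_succ]; exact Submodule.mul_mem_mul hzL hj
    rwa [hL, Submodule.mem_bot] at h
  have hsz : s z ≠ 0 := fun h => hz0 (hsoc z (hpowJ L hL1 hzL) hzj h)
  have hzC : z ∉ C := fun h => hsz (hCs z h)
  rcases (by omega : L = 1 ∨ 2 ≤ L) with hL2 | hL2
  · refine hcomm fun a ha b hb => ?_
    have h2 : ∀ u ∈ J, ∀ v ∈ J, u * v = 0 := fun u hu v hv => by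
      have h : u * v ∈ J ^ (L + 1) := by
        rw [hL2, pow_two]; exact Submodule.mul_mem_mul hu hv
      rwa [hL, Submodule.mem_bot] at h
    rw [h2 a ha b hb, h2 b hb a ha]
  have hzJ2 : z ∈ J * J := by
    obtain ⟨l, hl⟩ : ∃ l, L = 2 + l := ⟨L - 2, by omega⟩
    rw [hl, pow_add] at hzL
    rcases Nat.eq_zero_or_pos l with rfl | hl'
    · simpa [pow_two] using hzL
    · refine (?_ : J ^ 2 * J ^ l ≤ J * J) hzL
      rw [pow_two]
      refine (mul_le_mul' le_rfl (hpowJ l hl')).trans ?_
      exact mul_le_mul' hJJ le_rfl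
  -- dimensions
  have hCz : C < J * J := lt_of_le_of_ne hCJ2 fun h => hzC (h ▸ hzJ2)
  have hJdim : Module.finrank k J + 1 ≤ Module.finrank k U := by
    have : J < U := lt_of_le_of_ne inf_le_left fun h => by
      have := (h ▸ hfU : f ∈ J).2
      rw [SetLike.mem_coe, LinearMap.mem_ker, hπf] at this
      exact one_ne_zero this
    exact Submodule.finrank_lt_finrank_of_lt this
  have hJ2dim := Submodule.finrank_lt_finrank_of_lt hCz
  have hmod : Module.finrank k J ≤ Module.finrank k (J * J : Submodule k A) + 2 := by omega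
  by_cases hone : ∃ t ∈ J, J ≤ Submodule.span k {t} ⊔ J * J
  · obtain ⟨t, ht, hgen⟩ := hone
    exact hcomm (commute_of_generated hJJ ht hgen hJN)
  push Not at hone
  obtain ⟨x, hx, hx2⟩ : ∃ x ∈ J, x ∉ J * J := by
    by_contra h
    push Not at h
    exact hone 0 J.zero_mem (le_sup_of_le_right h)
  obtain ⟨y, hy, hy2⟩ := SetLike.not_le_iff_exists.1 (hone x hx)
  have hJgen : J ≤ Submodule.span k {x, y} ⊔ J * J := by
    have h1 : J * J < Submodule.span k {x} ⊔ J * J := lt_of_le_of_ne le_sup_right fun h =>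
      hx2 (h ▸ Submodule.mem_sup_left (Submodule.mem_span_singleton_self x))
    have h2 : Submodule.span k {x} ⊔ J * J < Submodule.span k {x, y} ⊔ J * J :=
      lt_of_le_of_ne (sup_le_sup_right (Submodule.span_mono (by simp)) _) fun h =>
        hy2 (h ▸ Submodule.mem_sup_left (Submodule.subset_span (by simp)))
    have h3 : Submodule.span k {x, y} ⊔ J * J ≤ J :=
      sup_le (Submodule.span_le.2 (by simp [Set.insert_subset_iff, hx, hy])) hJJ
    have := Submodule.finrank_lt_finrank_of_lt h1
    have := Submodule.finrank_lt_finrank_of_lt h2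
    exact (Submodule.eq_of_le_of_finrank_le h3 (by omega)).ge
  have hJ2 : J * J ≤ C ⊔ Submodule.span k {z} := by
    have h1 : C < C ⊔ Submodule.span k {z} := lt_of_le_of_ne le_sup_left fun h =>
      hzC (h ▸ Submodule.mem_sup_right (Submodule.mem_span_singleton_self z))
    have h2 : C ⊔ Submodule.span k {z} ≤ J * J :=
      sup_le hCJ2 (Submodule.span_le.2 (by simp [hzJ2]))
    have := Submodule.finrank_lt_finrank_of_lt h1
    have hx' : Module.finrank k (J * J : Submodule k A) + 2 ≤ Module.finrank k J := by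
      have e1 : J * J < Submodule.span k {x} ⊔ J * J := lt_of_le_of_ne le_sup_right fun h =>
        hx2 (h ▸ Submodule.mem_sup_left (Submodule.mem_span_singleton_self x))
      have e2 : Submodule.span k {x} ⊔ J * J < J := lt_of_le_of_ne
        (sup_le (Submodule.span_le.2 (by simp [hx])) hJJ) fun h => hy2 (h.symm ▸ hy)
      have := Submodule.finrank_lt_finrank_of_lt e1
      have := Submodule.finrank_lt_finrank_of_lt e2
      omega
    exact (Submodule.eq_of_le_of_finrank_le h2 (by omega)).ge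
  rcases (by omega : L = 2 ∨ 3 ≤ L) with hL3 | hL3
  · -- the square is the socle
    rw [eq_bot_iff]
    intro w hw
    have hwJ2 := hCJ2 hw
    rw [Submodule.mem_bot]
    refine hsoc w (hJJ hwJ2) (fun j hj => ?_) (hCs w hw)
    have h : w * j ∈ J ^ (L + 1) := by
      rw [hL3, pow_succ, pow_two]; exact Submodule.mul_mem_mul hwJ2 hj
    rwa [hL, Submodule.mem_bot] at h
  exfalso
  have hz3 : z ∈ J ^ 3 := by
    obtain ⟨l, hl⟩ : ∃ l, L = 2 + (l + 1) := ⟨L - 3, by omega⟩
    rw [hl, pow_add] at hzL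
    refine (?_ : J ^ 2 * J ^ (l + 1) ≤ J ^ 3) hzL
    rw [pow_succ J 2]
    exact mul_le_mul' le_rfl (hpowJ _ (by omega))
  set c := x * y - y * x with hc
  have hC3 : C ≤ Submodule.span k {c} ⊔ J ^ 3 := by
    set S := Submodule.span k {c} ⊔ J ^ 3 with hS
    have h3 : ∀ u ∈ J, ∀ v ∈ J * J, u * v ∈ S ∧ v * u ∈ S := fun u hu v hv =>
      ⟨Submodule.mem_sup_right (by rw [pow_succ' J 2, pow_two]; exact Submodule.mul_mem_mul hu hv),
        Submodule.mem_sup_right (by rw [pow_succ J 2, pow_two]; exact Submodule.mul_mem_mul hv hu)⟩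
    rw [hC, Submodule.span_le]
    rintro _ ⟨a, ha, b, hb, rfl⟩
    obtain ⟨a1, ha1, a2, ha2, hA⟩ := Submodule.mem_sup.1 (hJgen (hdec a ha))
    obtain ⟨b1, hb1, b2, hb2, hB⟩ := Submodule.mem_sup.1 (hJgen (hdec b hb))
    obtain ⟨α, β, rfl⟩ := Submodule.mem_span_pair.1 ha1
    obtain ⟨γ, δ, rfl⟩ := Submodule.mem_span_pair.1 hb1
    rw [SetLike.mem_coe, hcent a ha b hb, ← hA, ← hB]
    have hmA : α • x + β • y ∈ J := add_mem (J.smul_mem _ hx) (J.smul_mem _ hy)
    have hmB : γ • x + δ • y ∈ J := add_mem (J.smul_mem _ hx) (J.smul_mem _ hy)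
    have e : (α • x + β • y + a2) * (γ • x + δ • y + b2) - (γ • x + δ • y + b2) * (α • x + β • y + a2) =
        (α * δ - β * γ) • c + ((α • x + β • y) * b2 + a2 * (γ • x + δ • y) + a2 * b2
          - ((γ • x + δ • y) * a2 + b2 * (α • x + β • y) + b2 * a2)) := by
      simp only [hc, mul_add, add_mul, smul_mul_assoc, mul_smul_comm, smul_add, smul_sub, sub_smul, smul_smul]
      match_scalars <;> ring
    rw [e]
    refine add_mem (Submodule.mem_sup_left (Submodule.smul_mem _ _ (Submodule.mem_span_singleton_self c))) ?_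
    exact sub_mem (add_mem (add_mem (h3 _ hmA _ hb2).1 (h3 _ hmB _ ha2).2) (h3 _ (hJJ ha2) _ hb2).1)
      (add_mem (add_mem (h3 _ hmB _ ha2).1 (h3 _ hmA _ hb2).2) (h3 _ (hJJ ha2) _ hb2).2)
  have h34 := cube_le_fourth hJJ hx hy hJgen (hJ2.trans (sup_le hC3
    (le_sup_of_le_right (Submodule.span_le.2 (by simp [hz3])))))
  have hall : ∀ n, J ^ 3 ≤ J ^ (3 + n) := fun n => by
    induction n with
    | zero => exact le_rfl
    | succ n ih =>
      refine h34.trans ?_
      rw [show 3 + (n + 1) = (3 + n) + 1 from rfl, pow_succ J 3, pow_succ J (3 + n)]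
      exact mul_le_mul' ih le_rfl
  obtain ⟨l, hl⟩ : ∃ l, L + 1 = 3 + l := ⟨L - 2, by omega⟩
  have := hall l hz3
  rw [← hl, hL, Submodule.mem_bot] at this
  exact hz0 this

end CfsgLib.IBr
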