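import Cfsg.Agent.Lib.Blocks.Brauer.Rank
import Cfsg.Agent.Lib.Blocks.Basic

/-!
# Ranks of idempotent matrices over the local ring and over the residue field
-/

set_option autoImplicit false

namespace CfsgLib.IBr

open Cfsg CfsgLib.Blocks

variable {M : Ideal AlgInt} [M.IsPrime] {m : Type*} [Fintype m] [DecidableEq m]

theorem rank_residue_le (P : Matrix m m (localRing M)) (hP : P * P = P) :
    (P.map (resHom M)).rank ≤ (P.map (localRing M).subtype).rank := by
  classical
  set Q := P.map (resHom M) with hQ
  have hQQ : Q * Q = Q := by rw [hQ, ← Matrix.map_mul, hP]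
  set W := LinearMap.range Q.mulVecLin with hW
  set r := Q.rank with hr
  let b : Module.Basis (Fin r) (Res M) W := Module.finBasisOfFinrankEq _ _ rfl
  let incl : (Fin r → Res M) →ₗ[Res M] (m → Res M) := W.subtype ∘ₗ b.equivFun.symm.toLinearMap
  obtain ⟨left, hleft⟩ := incl.exists_leftInverse_of_injective
    (LinearMap.ker_eq_bot.2 (W.subtype_injective.comp b.equivFun.symm.injective))
  have hfix : Q.mulVecLin ∘ₗ incl = incl := by
    refine LinearMap.ext fun v => ?_
    obtain ⟨w, hw⟩ := LinearMap.mem_range.1 (b.equivFun.symm v).2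
    show Q.mulVecLin (b.equivFun.symm v : m → Res M) = (b.equivFun.symm v : m → Res M)
    rw [← hw, ← LinearMap.comp_apply, ← Matrix.mulVecLin_mul, hQQ]
  set Lm := LinearMap.toMatrix' left
  set Cm := LinearMap.toMatrix' incl
  have hLQC : Lm * Q * Cm = 1 := by
    have h : Lm * (LinearMap.toMatrix' Q.mulVecLin * Cm) = 1 := by
      rw [← LinearMap.toMatrix'_comp, hfix, ← LinearMap.toMatrix'_comp, hleft, LinearMap.toMatrix'_id]
    rwa [← Matrix.toLin'_apply', LinearMap.toMatrix'_toLin', ← Matrix.mul_assoc] at h
  obtain ⟨L', hL'⟩ : ∃ L' : Matrix (Fin r) m (localRing M), L'.map (resHom M) = Lm :=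
    ⟨Lm.map (Function.surjInv IsLocalRing.residue_surjective), by
      ext i j; simp [Function.surjInv_eq]⟩
  obtain ⟨C', hC'⟩ : ∃ C' : Matrix m (Fin r) (localRing M), C'.map (resHom M) = Cm :=
    ⟨Cm.map (Function.surjInv IsLocalRing.residue_surjective), by
      ext i j; simp [Function.surjInv_eq]⟩
  have hdet : (L' * P * C').det ≠ 0 := by
    intro h0
    have h := RingHom.map_det (resHom M) (L' * P * C')
    rw [h0, map_zero, RingHom.mapMatrix_apply, Matrix.map_mul, Matrix.map_mul, hL', hC', ← hQ, hLQC,
      Matrix.det_one] at h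
    exact zero_ne_one h
  have hdetC : ((L' * P * C').map (localRing M).subtype).det ≠ 0 := by
    intro h0
    rw [← RingHom.mapMatrix_apply, ← RingHom.map_det] at h0
    exact hdet (Subtype.ext h0)
  have h := Matrix.rank_of_det_ne_zero hdetC
  rw [Fintype.card_fin, Matrix.map_mul, Matrix.map_mul] at h
  rw [← h]
  exact (Matrix.rank_mul_le_left _ _).trans (Matrix.rank_mul_le_right _ _)

/-- An idempotent matrix over the local ring has the same rank over both fields. -/
theorem rank_residue_eq (P : Matrix m m (localRing M)) (hP : P * P = P) :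
    (P.map (resHom M)).rank = (P.map (localRing M).subtype).rank := by
  refine le_antisymm (rank_residue_le P hP) ?_
  have hP' : (1 - P) * (1 - P) = 1 - P := by
    rw [sub_mul, one_mul, mul_sub, mul_one, hP, sub_self, sub_zero]
  have h := rank_residue_le (1 - P) hP'
  have h1 : ∀ {k : Type} [Field k] (f : localRing M →+* k),
      (P.map f).rank + ((1 - P).map f).rank = Fintype.card m := by
    intro k _ f
    have hsum : P.map f + (1 - P).map f = 1 := by
      rw [← Matrix.map_add _ (map_add f), add_sub_cancel, Matrix.map_one _ (map_zero f) (map_one f)]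
    rw [← rank_add_of_orthogonal, hsum, Matrix.rank_one]
    · rw [← Matrix.map_mul, hP]
    · rw [← Matrix.map_mul, hP']
    · rw [← Matrix.map_mul, mul_sub, mul_one, hP, sub_self, Matrix.map_zero _ (map_zero f)]
    · rw [← Matrix.map_mul, sub_mul, one_mul, hP, sub_self, Matrix.map_zero _ (map_zero f)]
  have e1 := h1 (resHom M)
  have e2 := h1 (localRing M).subtype
  omega

end CfsgLib.IBr
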