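import Cfsg.Agent.Lib.Blocks.Brauer.Data
import Cfsg.Agent.Lib.Blocks.SubsectionNorms

/-!
# The trace of a conjugation twist on a block in one section

For a `p`-element `x` and `y` with `y x y⁻¹ = x ^ k`, the sum over regular `s ∈ C(x)` of
`∑ χ ∈ B, χ (x ^ k s) conj χ (x s)` is the order of `C(x)` times the number of Brauer characters
of blocks of `C(x)` inducing to `B` that are fixed by `y`.
-/

set_option autoImplicit false

namespace CfsgLib.IBr

open Cfsg MonoidAlgebra CfsgLib.Blocks CfsgLib.Pairs CfsgLib.Star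
open scoped ComplexConjugate

variable {G : Type*} [Group G] [Fintype G] {p : ℕ} [Fact p.Prime] {M : Ideal AlgInt} [M.IsPrime]

open scoped Classical in
omit [Fact p.Prime] in
theorem column_count [Fintype (IrrCharacter G)] (u v : G) :
    ∑ χ : IrrCharacter G, (χ : G → ℂ) u * conj ((χ : G → ℂ) v) =
      ((Finset.univ.filter fun g : G => g * u * g⁻¹ = v).card : ℂ) := by
  rw [Char.column_orthogonality u v]
  by_cases h : IsConj u v
  · obtain ⟨c, hc⟩ := isConj_iff.1 h
    rw [if_pos h, Nat.card_eq_fintype_card, ← Finset.card_univ]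
    congr 1
    refine Finset.card_bij (fun z _ => c * (z : G)) (fun z _ => ?_) (fun z _ z' _ e => Subtype.ext
      (mul_left_cancel e)) fun g hg => ?_
    · rw [Finset.mem_filter]
      refine ⟨Finset.mem_univ _, ?_⟩
      rw [← hc, show c * (z : G) * u * (c * (z : G))⁻¹ = c * ((z : G) * u) * (z : G)⁻¹ * c⁻¹ by group,
        Subgroup.mem_centralizer_singleton_iff.1 z.2]
      group
    · rw [Finset.mem_filter] at hg
      refine ⟨⟨c⁻¹ * g, Subgroup.mem_centralizer_singleton_iff.2 ?_⟩, Finset.mem_univ _, by simp⟩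
      have e : g * u = v * g := by rw [← hg.2]; group
      rw [mul_assoc, e, ← hc]
      group
  · rw [if_neg h, Finset.card_eq_zero.2 (Finset.filter_eq_empty_iff.2 fun g _ hg =>
      h (isConj_iff.2 ⟨g, hg⟩)), Nat.cast_zero]

variable {x : G}

open scoped Classical in
/-- Regular orthogonality of a Brauer character against a restricted character of another block. -/
theorem sum_phi_mul_apply_eq_zero (hM : IsPModular p M) (hx : ∃ k : ℕ, orderOf x = p ^ k)
    (D : Data (Subgroup.centralizer ({x} : Set G)) M) {δ : Fin D.n}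
    {B : Set (IrrCharacter G)} (hB : IsPBlock M B) {χ : IrrCharacter G} (hχ : χ ∈ B)
    (hδ : ¬ IsInducedBlock M (Subgroup.centralizer ({x} : Set G)) (D.block hM δ) B) :
    ∑ s ∈ Finset.univ.filter (fun s : Subgroup.centralizer ({x} : Set G) => ¬ p ∣ orderOf s),
      D.phi p δ s * conj ((χ : G → ℂ) (x * (s : G))) = 0 := by
  have := Fintype.ofFinite (IrrCharacter (Subgroup.centralizer ({x} : Set G)))
  obtain ⟨c, hc⟩ := D.exists_combination hM δ
  rw [D.combination_block hM δ hc]
  rw [Finset.sum_congr rfl fun s hs => by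
    rw [apply_mul_eq_sum_blockPart hM hx hB hχ (Finset.mem_filter.1 hs).2, map_sum,
      Finset.mul_sum]]
  rw [Finset.sum_comm]
  refine Finset.sum_eq_zero fun b hb => ?_
  have hbB := (Finset.mem_filter.1 hb).2
  have hne : D.block hM δ ≠ b := fun e => hδ (e ▸ hbB)
  simp only [blockPart_eq, finsum_mem_eq_finite_toFinset_sum _ (Set.toFinite b), map_sum,
    map_mul, Finset.sum_apply, Finset.sum_mul, Finset.mul_sum, Pi.smul_apply, smul_eq_mul]
  rw [Finset.sum_comm]
  refine Finset.sum_eq_zero fun η hη => ?_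
  rw [Finset.sum_comm]
  refine Finset.sum_eq_zero fun ξ hξ => ?_
  have h := sum_regular_eq_zero hM (χ := ξ) (ψ := η) fun hs => hne
    (IsPBlock.eq_of_mem (D.isPBlock_block hM δ) (isInducedBlock_iff.1 hbB).1
      (χ := η) (by
        rw [IsPBlock.eq_blockOf (D.isPBlock_block hM δ) (Finset.mem_filter.1 hξ).2]
        exact mem_blockOf.2 hs) ((Set.Finite.mem_toFinset _).1 hη))
  have h' := congrArg (fun z => c ξ * conj (classInner
    (fun t : Subgroup.centralizer ({x} : Set G) => (χ : G → ℂ) (x * (t : G)))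
    (η : Subgroup.centralizer ({x} : Set G) → ℂ)) * z) h
  simp only [mul_zero, Finset.mul_sum] at h'
  refine Eq.trans (Finset.sum_congr rfl fun s hs => ?_) h'
  rw [show pRegularPart p (ξ : Subgroup.centralizer ({x} : Set G) → ℂ) s =
    (ξ : Subgroup.centralizer ({x} : Set G) → ℂ) s from by
      simp [pRegularPart, IsPRegular, (Finset.mem_filter.1 hs).2], Char.IsIrr.map_inv η.2]
  ring

open scoped Classical in
/-- A restricted character is a combination of the Brauer characters of the inducing blocks. -/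
theorem exists_coeff_apply_mul (hM : IsPModular p M) (hx : ∃ k : ℕ, orderOf x = p ^ k)
    (D : Data (Subgroup.centralizer ({x} : Set G)) M) {B : Set (IrrCharacter G)}
    (hB : IsPBlock M B) {χ : IrrCharacter G} (hχ : χ ∈ B) :
    ∃ e : Fin D.n → ℂ, ∀ s : Subgroup.centralizer ({x} : Set G), ¬ p ∣ orderOf s →
      (χ : G → ℂ) (x * (s : G)) = ∑ δ ∈ Finset.univ.filter (fun δ =>
        IsInducedBlock M (Subgroup.centralizer ({x} : Set G)) (D.block hM δ) B),
          e δ * D.phi p δ s := by
  have := Fintype.ofFinite (IrrCharacter (Subgroup.centralizer ({x} : Set G)))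
  set θ : (Subgroup.centralizer ({x} : Set G)) → ℂ := fun t => (χ : G → ℂ) (x * (t : G))
  refine ⟨fun δ => ∑ η ∈ Finset.univ.filter (fun η : IrrCharacter (Subgroup.centralizer ({x} : Set G)) => η ∈ D.block hM δ),
    classInner θ (η : (Subgroup.centralizer ({x} : Set G)) → ℂ) * (D.dec η δ : ℂ), fun s hs => ?_⟩
  rw [apply_mul_eq_sum_blockPart hM hx hB hχ hs]
  set S := (Finset.univ.image fun ψ : IrrCharacter (Subgroup.centralizer ({x} : Set G)) => blockOf M (ψ : (Subgroup.centralizer ({x} : Set G)) → ℂ)).filter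
    fun b => IsInducedBlock M (Subgroup.centralizer ({x} : Set G)) b B
  have hexp : ∀ η : IrrCharacter (Subgroup.centralizer ({x} : Set G)), (η : (Subgroup.centralizer ({x} : Set G)) → ℂ) s = ∑ δ, (D.dec η δ : ℂ) * D.phi p δ s := fun η => by
    have h := congrFun (D.pRegularPart_eq_sum hM η) s
    simpa [pRegularPart, IsPRegular, hs, Finset.sum_apply] using h
  have hb' : ∀ b ∈ S, blockPart b θ s = ∑ δ ∈ Finset.univ.filter (fun δ => D.block hM δ = b),
      (∑ η ∈ Finset.univ.filter (fun η : IrrCharacter (Subgroup.centralizer ({x} : Set G)) => η ∈ D.block hM δ),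
        classInner θ (η : (Subgroup.centralizer ({x} : Set G)) → ℂ) * (D.dec η δ : ℂ)) * D.phi p δ s := by
    intro b hb
    have hbp := (isInducedBlock_iff.1 (Finset.mem_filter.1 hb).2).1
    rw [blockPart_eq, finsum_mem_eq_sum_of_inter_support_eq
      (t := Finset.univ.filter (fun η : IrrCharacter (Subgroup.centralizer ({x} : Set G)) => η ∈ b))]
    swap
    · ext η; simp
    simp only [hexp, Finset.mul_sum, Finset.sum_mul]
    rw [Finset.sum_comm, Finset.sum_filter (s := (Finset.univ : Finset (Fin D.n)))]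
    refine Finset.sum_congr rfl fun δ _ => ?_
    split_ifs with hd
    · rw [hd]
      exact Finset.sum_congr rfl fun η _ => by ring
    · refine Finset.sum_eq_zero fun η hη => ?_
      rw [D.dec_eq_zero_of_ne hM hbp (Finset.mem_filter.1 hη).2 hd]
      simp
  rw [Finset.sum_congr rfl hb', ← Finset.sum_biUnion]
  · refine Finset.sum_congr ?_ fun _ _ => rfl
    ext δ
    simp only [Finset.mem_biUnion, Finset.mem_filter, Finset.mem_univ, true_and]
    constructor
    · rintro ⟨b, hb, rfl⟩
      exact (Finset.mem_filter.1 hb).2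
    · intro h
      refine ⟨_, Finset.mem_filter.2 ⟨?_, h⟩, rfl⟩
      obtain ⟨ψ, hψ⟩ := D.isPBlock_block hM δ
      exact Finset.mem_image.2 ⟨ψ, Finset.mem_univ _, hψ.symm⟩
  · intro b _ b' _ hne
    exact Finset.disjoint_left.2 fun δ hd hd' =>
      hne ((Finset.mem_filter.1 hd).2.symm.trans (Finset.mem_filter.1 hd').2)

open scoped Classical in
/-- The twisted trace in one section is a natural multiple of the centralizer order. -/
theorem exists_section_trace (hM : IsPModular p M) (hx : ∃ k : ℕ, orderOf x = p ^ k) {k : ℕ}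
    {y : G} (hy : y * x * y⁻¹ = x ^ k) {B : Set (IrrCharacter G)} (hB : IsPBlock M B) :
    ∃ m : ℕ, ∑ s ∈ Finset.univ.filter (fun s : Subgroup.centralizer ({x} : Set G) => ¬ p ∣ orderOf s),
      ∑ χ ∈ (Set.toFinite B).toFinset,
        (χ : G → ℂ) (x ^ k * (s : G)) * conj ((χ : G → ℂ) (x * (s : G))) =
      (m : ℂ) * (Nat.card (Subgroup.centralizer ({x} : Set G)) : ℂ) := by
  set C := Subgroup.centralizer ({x} : Set G) with hC
  have := Fintype.ofFinite (IrrCharacter G)
  obtain ⟨D⟩ := nonempty_data (G := C) (M := M)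
  set T := Finset.univ.filter (fun δ => IsInducedBlock M C (D.block hM δ) B) with hT
  have hstab : ∀ c : C, y⁻¹ * (c : G) * y ∈ C := fun c => by
    refine Subgroup.mem_centralizer_singleton_iff.2 ?_
    have hcx : Commute (c : G) x := Subgroup.mem_centralizer_singleton_iff.1 c.2
    have h := (hcx.pow_right k).eq
    rw [← hy] at h
    calc y⁻¹ * (c : G) * y * x = y⁻¹ * ((c : G) * (y * x * y⁻¹)) * y := by group
      _ = y⁻¹ * (y * x * y⁻¹ * (c : G)) * y := by rw [h]
      _ = x * (y⁻¹ * (c : G) * y) := by group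
  let f : C →* C :=
    { toFun := fun c => ⟨y⁻¹ * (c : G) * y, hstab c⟩
      map_one' := Subtype.ext (by simp)
      map_mul' := fun a b => Subtype.ext (by simp [mul_assoc]) }
  have hfbij : Function.Bijective f := by
    refine Finite.injective_iff_bijective.1 fun a b h => Subtype.ext ?_
    simpa [f] using congrArg Subtype.val h
  let τ : C ≃* C := MulEquiv.ofBijective f hfbij
  have hτ : ∀ s : C, ((τ s : C) : G) = y⁻¹ * (s : G) * y := fun s => rfl
  obtain ⟨π, hπ⟩ := D.exists_perm_phi (p := p) τ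
  refine ⟨(T.filter fun δ => π δ = δ).card, ?_⟩
  set R : IrrCharacter G → Fin D.n → ℂ := fun χ δ =>
    ∑ s ∈ Finset.univ.filter (fun s : C => ¬ p ∣ orderOf s),
      D.phi p δ s * conj ((χ : G → ℂ) (x * (s : G))) with hR
  have hee : ∀ χ : IrrCharacter G, ∃ e : Fin D.n → ℂ, χ ∈ B → ∀ s : C, ¬ p ∣ orderOf s →
      (χ : G → ℂ) (x * (s : G)) = ∑ δ ∈ T, e δ * D.phi p δ s := fun χ => by
    by_cases h : χ ∈ B
    · obtain ⟨e, he⟩ := exists_coeff_apply_mul hM hx D hB h
      exact ⟨e, fun _ => he⟩
    · exact ⟨0, fun h' => absurd h' h⟩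
  choose e he using hee
  -- reproduction
  have hrep : ∀ δ' ∈ T, ∀ a : C, ¬ p ∣ orderOf a →
      ∑ χ ∈ (Set.toFinite B).toFinset, (χ : G → ℂ) (x * (a : G)) * R χ δ' =
        (Nat.card C : ℂ) * D.phi p δ' a := by
    intro δ' hδ' a ha
    have hall : ∑ χ : IrrCharacter G, (χ : G → ℂ) (x * (a : G)) * R χ δ' =
        (Nat.card C : ℂ) * D.phi p δ' a := by
      simp only [hR, Finset.mul_sum]
      rw [Finset.sum_comm]
      have h1 : ∀ s ∈ Finset.univ.filter (fun s : C => ¬ p ∣ orderOf s),
          ∑ χ : IrrCharacter G, (χ : G → ℂ) (x * (a : G)) * (D.phi p δ' s * conj ((χ : G → ℂ) (x * (s : G)))) =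
            ∑ c ∈ Finset.univ.filter (fun c : C => c * a * c⁻¹ = s), D.phi p δ' s := by
        intro s hs
        rw [Finset.sum_congr rfl fun χ _ => mul_left_comm _ _ _, ← Finset.mul_sum,
          column_count, Finset.sum_const, nsmul_eq_mul, mul_comm]
        congr 2
        have hmem : ∀ g : G, g * (x * (a : G)) * g⁻¹ = x * (s : G) → g ∈ C := fun g hg => by
          have hu : IsPPart p (x * (a : G)) x := ⟨(a : G), rfl,
            (Subgroup.mem_centralizer_singleton_iff.1 a.2).symm, hx, by rwa [Subgroup.orderOf_coe]⟩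
          have hv : IsPPart p (x * (s : G)) x := ⟨(s : G), rfl,
            (Subgroup.mem_centralizer_singleton_iff.1 s.2).symm, hx, by
              rw [Subgroup.orderOf_coe]; exact (Finset.mem_filter.1 hs).2⟩
          have h := conj_pPart_eq hM.1 hu hv (x := g⁻¹) (j := 1) (by simpa using hM.1.ne_one) (by
            rw [pow_one, pow_one, ← hg]; group)
          rw [inv_inv] at h
          refine Subgroup.mem_centralizer_singleton_iff.2 ?_
          calc g * x = g * x * g⁻¹ * g := by group
            _ = x * g := by rw [h]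
        refine Finset.card_bij (fun g hg => (⟨g, hmem g (Finset.mem_filter.1 hg).2⟩ : C))
          (fun g hg => ?_) (fun g _ g' _ e => congrArg Subtype.val e) fun c hc => ?_
        · have hg' := (Finset.mem_filter.1 hg).2
          have hgx : g * x = x * g :=
            Subgroup.mem_centralizer_singleton_iff.1 (hmem g hg')
          rw [Finset.mem_filter]
          refine ⟨Finset.mem_univ _, Subtype.ext ?_⟩
          rw [← mul_assoc g, hgx, mul_assoc x g, mul_assoc x] at hg'
          exact mul_left_cancel hg'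
        · refine ⟨(c : G), Finset.mem_filter.2 ⟨Finset.mem_univ _, ?_⟩, rfl⟩
          have hc' := congrArg Subtype.val (Finset.mem_filter.1 hc).2
          simp only [Subgroup.coe_mul, Subgroup.coe_inv] at hc'
          rw [← hc', ← mul_assoc (c : G) x, Subgroup.mem_centralizer_singleton_iff.1 c.2]
          group
      rw [Finset.sum_congr rfl h1]
      have h2 : ∀ c : C, c * a * c⁻¹ ∈ Finset.univ.filter (fun s : C => ¬ p ∣ orderOf s) := fun c => by
        rw [Finset.mem_filter]
        exact ⟨Finset.mem_univ _, by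
          rwa [show orderOf (c * a * c⁻¹) = orderOf a from MulEquiv.orderOf_eq (MulAut.conj c) a]⟩
      rw [Finset.sum_congr rfl fun s _ => Finset.sum_filter (p := fun c : C => c * a * c⁻¹ = s) _,
        Finset.sum_comm, Finset.sum_congr rfl fun c _ => by
          rw [Finset.sum_ite_eq, if_pos (h2 c), D.phi_isClassFunction hM δ' a c],
        Finset.sum_const, Finset.card_univ, nsmul_eq_mul, Nat.card_eq_fintype_card]
    rw [← hall]
    refine Finset.sum_subset (Finset.subset_univ _) fun χ _ hχ => ?_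
    have hχB : χ ∉ B := fun h => hχ ((Set.Finite.mem_toFinset _).2 h)
    rw [show R χ δ' = 0 from sum_phi_mul_apply_eq_zero hM hx D (isPBlock_blockOf χ) (mem_blockOf_self χ)
      (fun h => hχB ?_), mul_zero]
    obtain ⟨η, hη⟩ := IsPBlock.nonempty (D.isPBlock_block hM δ')
    obtain ⟨ξ, hξ⟩ := IsPBlock.nonempty hB
    have hsame : SameBlock M (ξ : G → ℂ) (χ : G → ℂ) := sameBlock_of_omegaBar_eq fun z hz =>
      ((isInducedBlock_iff.1 (Finset.mem_filter.1 hδ').2).2.2 η hη ξ hξ z hz).symm.trans
        ((isInducedBlock_iff.1 h).2.2 η hη χ (mem_blockOf_self χ) z hz)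
    rw [IsPBlock.eq_blockOf hB hξ]
    exact mem_blockOf.2 hsame
  have horth : ∀ δ' ∈ T, ∀ ε ∈ T, ∑ χ ∈ (Set.toFinite B).toFinset, e χ ε * R χ δ' =
      if ε = δ' then (Nat.card C : ℂ) else 0 := by
    intro δ' hδ'
    have hzero : ∑ ε, (if ε ∈ T then (∑ χ ∈ (Set.toFinite B).toFinset, e χ ε * R χ δ') -
        (if ε = δ' then (Nat.card C : ℂ) else 0) else 0) • D.phi p ε = 0 := by
      funext a
      simp only [Finset.sum_apply, Pi.smul_apply, smul_eq_mul, ite_mul, zero_mul, Pi.zero_apply,
        ← Finset.sum_filter, Finset.filter_mem_eq_inter, Finset.univ_inter, sub_mul,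
        Finset.sum_sub_distrib, Finset.sum_ite_eq', if_pos hδ']
      by_cases ha : p ∣ orderOf a
      · simp [D.phi_singular _ ha]
      rw [sub_eq_zero, Finset.filter_eq', if_pos hδ', Finset.sum_singleton, ← hrep δ' hδ' a ha]
      simp only [Finset.sum_mul]
      rw [Finset.sum_comm]
      refine Finset.sum_congr rfl fun χ hχ => ?_
      rw [he χ ((Set.Finite.mem_toFinset _).1 hχ) a ha, Finset.sum_mul]
      exact Finset.sum_congr rfl fun ε _ => by ring
    intro ε hε
    have h := Fintype.linearIndependent_iff.1 (D.linearIndependent_phi hM) _ hzero ε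
    rwa [if_pos hε, sub_eq_zero] at h
  have hmove : ∀ χ ∈ (Set.toFinite B).toFinset, ∑ s ∈ Finset.univ.filter (fun s : C => ¬ p ∣ orderOf s),
      (χ : G → ℂ) (x ^ k * (s : G)) * conj ((χ : G → ℂ) (x * (s : G))) =
      ∑ δ ∈ T, e χ δ * R χ (π δ) := by
    intro χ hχ
    have hs' : ∀ s : C, ¬ p ∣ orderOf s → (χ : G → ℂ) (x ^ k * (s : G)) =
        ∑ δ ∈ T, e χ δ * D.phi p (π δ) s := fun s hs => by
      rw [← hy, show y * x * y⁻¹ * (s : G) = y * (x * (y⁻¹ * (s : G) * y)) * y⁻¹ by group,
        Char.IsIrr.isClassFunction χ.2, ← hτ,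
        he χ ((Set.Finite.mem_toFinset _).1 hχ) (τ s) (by rwa [MulEquiv.orderOf_eq τ s])]
      exact Finset.sum_congr rfl fun δ _ => by rw [hπ δ s hM]
    rw [Finset.sum_congr rfl fun s hs => by rw [hs' s (Finset.mem_filter.1 hs).2, Finset.sum_mul],
      Finset.sum_comm]
    refine Finset.sum_congr rfl fun δ _ => ?_
    simp only [hR, Finset.mul_sum]
    exact Finset.sum_congr rfl fun s _ => by ring
  rw [Finset.sum_comm, Finset.sum_congr rfl hmove, Finset.sum_comm, Finset.card_filter, Nat.cast_sum,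
    Finset.sum_mul]
  refine Finset.sum_congr rfl fun δ hδ => ?_
  by_cases hπT : π δ ∈ T
  · rw [horth _ hπT δ hδ]
    by_cases h : π δ = δ
    · simp [h]
    · simp [h, Ne.symm h]
  · rw [if_neg (fun h => hπT (by rw [h]; exact hδ)), Nat.cast_zero, zero_mul]
    refine Finset.sum_eq_zero fun χ hχ => ?_
    rw [show R χ (π δ) = 0 from sum_phi_mul_apply_eq_zero hM hx D hB ((Set.Finite.mem_toFinset _).1 hχ)
      fun h => hπT (Finset.mem_filter.2 ⟨Finset.mem_univ _, h⟩), mul_zero]

end CfsgLib.IBr
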