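import Cfsg.Agent.Lib.Blocks.Brauer.Degrees
import Cfsg.Agent.Lib.Blocks.Brauer.ResidueRank
import Cfsg.Agent.Lib.Blocks.Brauer.SectionTrace
import Cfsg.Agent.Lib.Blocks.Brauer.LocalAlgebra
import Cfsg.Agent.Lib.Blocks.Cyclic1.RelTrace
import Cfsg.Agent.Lib.Blocks.Cyclic1.FiniteType

/-!
# The corner algebra of a block with one Brauer character

For a block with a single Brauer character and a primitive idempotent `f` in it, the corner
`f k[G] f` is local and symmetric, its dimension is the sum of the squares of the decomposition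
numbers, and its traces embed into the class functions of the block.  With two characters in the
block that sum is therefore at most two (Brandt).
-/

set_option autoImplicit false

namespace CfsgLib.IBr

open Cfsg MonoidAlgebra CfsgLib.Blocks CfsgLib.Pairs CfsgLib.Star

variable {G : Type*} [Group G] [Fintype G] {p : ℕ} [Fact p.Prime] {M : Ideal AlgInt} [M.IsPrime]
  (hM : IsPModular p M)
include hM

namespace Data

variable (D : Data G M)

theorem psi_blockIdemBar_of_ne {B : Set (IrrCharacter G)} (hB : IsPBlock M B) {δ : Fin D.n}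
    (hδ : D.block hM δ ≠ B) : D.ψ (blockIdemBar M B) δ = 0 := by
  classical
  obtain ⟨χ, hχ⟩ := D.exists_dec_ne_zero hM δ
  have hχB : χ ∉ B := fun h =>
    hδ (IsPBlock.eq_of_mem (D.isPBlock_block hM δ) hB (D.mem_block_of_dec hM hχ) h)
  have hm : (mult (M := M) (χ : G → ℂ) (blockIdemBar M B) : ℂ) = 0 := by
    rw [mult_blockIdemBar hM hB χ, if_neg hχB]
  rw [Int.cast_eq_zero, D.mult_eq_sum hM χ (blockIdemBar_mul_self hB)] at hm
  simp only [rk] at hm
  rw [Finset.sum_eq_zero_iff_of_nonneg fun δ' _ =>
    mul_nonneg (Int.natCast_nonneg _) (Int.natCast_nonneg _)] at hm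
  have h0 := (mul_eq_zero.1 (hm δ (Finset.mem_univ _))).resolve_right (by exact_mod_cast hχ)
  have h0' : (D.ψ (blockIdemBar M B) δ).rank = 0 := by exact_mod_cast h0
  rw [Matrix.rank, Submodule.finrank_eq_zero, LinearMap.range_eq_bot] at h0'
  exact Matrix.toLin'.injective (by rw [Matrix.toLin'_apply', h0', map_zero])

theorem psi_blockIdemBar {B : Set (IrrCharacter G)} (hB : IsPBlock M B) {δ : Fin D.n}
    (hδ : D.block hM δ = B) : D.ψ (blockIdemBar M B) δ = 1 := by
  classical
  have := Fintype.ofFinite {B : Set (IrrCharacter G) // IsPBlock M B}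
  have hsum : ∑ B' : {B : Set (IrrCharacter G) // IsPBlock M B}, D.ψ (blockIdemBar M B'.1) δ = 1 := by
    rw [← Finset.sum_apply, ← map_sum, sum_blockIdemBar, map_one, Pi.one_apply]
  rw [Finset.sum_eq_single ⟨B, hB⟩ (fun B' _ hne => D.psi_blockIdemBar_of_ne hM B'.2 fun h =>
    hne (Subtype.ext (h.symm.trans hδ))) fun h => absurd (Finset.mem_univ _) h] at hsum
  exact hsum

end Data

/-- Independent functions over the residue field fixed by a block projection are at most as many
as the characters of the block. -/
theorem card_le_of_fixed {B : Set (IrrCharacter G)} (hB : IsPBlock M B) {ι : Type*} [Fintype ι]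
    (F : ι → G → Res M) (hcl : ∀ i, ∀ g h : G, F i (h * g * h⁻¹) = F i g)
    (hfix : ∀ i x, ∑ w, (blockIdemBar M B).coeff w * F i (w * x) = F i x)
    (hli : LinearIndependent (Res M) F) : Fintype.card ι ≤ Nat.card B := by
  classical
  have := Fintype.ofFinite (ConjClasses G)
  have := Fintype.ofFinite (IrrCharacter G)
  let rep : ConjClasses G → G := fun C => Quotient.out C
  set P : Matrix (ConjClasses G) (ConjClasses G) (localRing M) := Matrix.of fun C C' =>
    ∑ w, (if ConjClasses.mk (w * rep C) = C' then (blockIdemO M B).coeff w else 0) with hP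
  -- the operator on class functions over any image of the local ring
  have hop : ∀ {R : Type} [CommRing R] (φ : localRing M →+* R) (F : ConjClasses G → R) (C : ConjClasses G),
      (P.map φ).mulVec F C =
        ∑ w, φ ((blockIdemO M B).coeff w) * F (ConjClasses.mk (w * rep C)) := by
    intro R _ φ F C
    simp only [Matrix.mulVec, dotProduct, Matrix.map_apply, hP, Matrix.of_apply, map_sum, Finset.sum_mul]
    rw [Finset.sum_comm]
    refine Finset.sum_congr rfl fun w _ => ?_
    rw [Finset.sum_eq_single (ConjClasses.mk (w * rep C))]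
    · simp
    · intro b _ hb; simp [Ne.symm hb]
    · simp
  have hC : ∀ C : ConjClasses G, ConjClasses.mk (rep C) = C := fun C => Quotient.out_eq C
  -- over the complex numbers the image is spanned by the block
  have himg : ∀ F : ConjClasses G → ℂ, (P.map (localRing M).subtype).mulVec F =
      ∑ χ ∈ (Set.toFinite B).toFinset,
        classInner (fun g => F (ConjClasses.mk g)) (χ : G → ℂ) • fun C => (χ : G → ℂ) (rep C) := by
    intro F
    funext C
    rw [hop]
    have hFc : IsClassFunction G fun g => F (ConjClasses.mk g) := fun g h =>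
      congrArg F (ConjClasses.mk_eq_mk_iff_isConj.2 (isConj_iff.2 ⟨h⁻¹, by group⟩))
    have hexp : ∀ g, F (ConjClasses.mk g) = ∑ χ : IrrCharacter G,
        classInner (fun g => F (ConjClasses.mk g)) (χ : G → ℂ) * (χ : G → ℂ) g := fun g =>
      Char.classFunction_apply_eq_sum hFc g
    rw [Finset.sum_congr rfl fun w _ => by rw [hexp (w * rep C)]]
    simp only [Finset.mul_sum]
    simp only [Finset.sum_apply, Pi.smul_apply, smul_eq_mul]
    rw [Finset.sum_comm]
    refine (Finset.sum_subset (Finset.subset_univ (Set.toFinite B).toFinset) ?_).symm.trans ?_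
    swap
    · refine Finset.sum_congr rfl fun χ hχ => ?_
      rw [Finset.sum_congr rfl fun w _ => mul_left_comm _ _ _, ← Finset.mul_sum]
      congr 1
      have h := sum_apply_mul_eq_omega χ (inc M (blockIdemO M B)) (rep C)
      simp only [coeff_inc] at h
      rw [show ∑ w, (localRing M).subtype ((blockIdemO M B).coeff w) * (χ : G → ℂ) (w * rep C) =
        _ from h, omega_mul χ (isCentralElt_inc (isCentralElt_blockIdemO hB)), inc_blockIdemO hB,
        omega_blockIdem, if_pos ((Set.Finite.mem_toFinset _).1 hχ), one_mul, omega_apply,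
        mul_div_cancel₀ _ (Char.IsIrr.apply_one_ne_zero χ.2), Finset.sum_eq_single (rep C)]
      · simp [MonoidAlgebra.coeff_single]
      · intro b _ hb; simp [MonoidAlgebra.coeff_single, hb]
      · simp
    · intro χ _ hχ
      rw [Finset.sum_congr rfl fun w _ => mul_left_comm _ _ _, ← Finset.mul_sum]
      refine mul_eq_zero_of_right _ ?_
      have h := sum_apply_mul_eq_omega χ (inc M (blockIdemO M B)) (rep C)
      simp only [coeff_inc] at h
      rw [show ∑ w, (localRing M).subtype ((blockIdemO M B).coeff w) * (χ : G → ℂ) (w * rep C) =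
        _ from h, omega_mul χ (isCentralElt_inc (isCentralElt_blockIdemO hB)), inc_blockIdemO hB,
        omega_blockIdem, if_neg (fun h => hχ ((Set.Finite.mem_toFinset _).2 h)), zero_mul, mul_zero]
  have hrank : (P.map (localRing M).subtype).rank ≤ Nat.card B := by
    rw [Matrix.rank, Nat.card_coe_set_eq, Set.ncard_eq_toFinset_card B (Set.toFinite B)]
    refine le_trans ?_ (Finset.card_image_le
      (f := fun χ : IrrCharacter G => fun C : ConjClasses G => (χ : G → ℂ) (rep C)))
    refine le_trans (Submodule.finrank_mono ?_) (finrank_span_finset_le_card (R := ℂ) _)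
    rintro _ ⟨F, rfl⟩
    rw [Matrix.mulVecLin_apply, himg]
    refine sum_mem fun χ hχ => Submodule.smul_mem _ _ (Submodule.subset_span ?_)
    rw [Finset.coe_image]
    exact ⟨χ, hχ, rfl⟩
  -- the matrix is idempotent
  have hPP : P * P = P := by
    refine Matrix.map_injective (f := (localRing M).subtype) Subtype.val_injective ?_
    show (P * P).map _ = P.map _
    rw [Matrix.map_mul]
    refine Matrix.toLin'.injective (LinearMap.ext fun F => ?_)
    rw [Matrix.toLin'_apply, Matrix.toLin'_apply, ← Matrix.mulVec_mulVec, himg F, Matrix.mulVec_sum]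
    refine Finset.sum_congr rfl fun χ hχ => ?_
    rw [Matrix.mulVec_smul, himg]
    congr 1
    have hfun : (fun g => (χ : G → ℂ) (rep (ConjClasses.mk g))) = (χ : G → ℂ) := funext fun g =>
      Char.isClassFunction_iff_isConj.1 (Char.IsIrr.isClassFunction χ.2) _ _
        (ConjClasses.mk_eq_mk_iff_isConj.1 (hC _))
    rw [Finset.sum_eq_single χ (fun η _ hne => by
        rw [hfun, Char.classInner_irr_of_ne hne.symm, zero_smul]) (fun h => absurd hχ h),
      hfun, Char.classInner_irr_self, one_smul]
  rw [← rank_residue_eq P hPP] at hrank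
  refine le_trans ?_ hrank
  let F' : ι → ConjClasses G → Res M := fun i C => F i (rep C)
  have hFF : ∀ i g, F' i (ConjClasses.mk g) = F i g := fun i g => by
    obtain ⟨c, hc⟩ := isConj_iff.1 (ConjClasses.mk_eq_mk_iff_isConj.1 (hC (ConjClasses.mk g)))
    exact ((hcl i _ c).symm.trans (congrArg (F i) hc))
  have hli' : LinearIndependent (Res M) F' := by
    rw [Fintype.linearIndependent_iff] at hli ⊢
    intro c hc
    refine hli c (funext fun g => ?_)
    have h := congrFun hc (ConjClasses.mk g)
    simpa [Finset.sum_apply, hFF] using h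
  rw [Matrix.rank, ← finrank_span_eq_card hli']
  refine Submodule.finrank_mono (Submodule.span_le.2 ?_)
  rintro _ ⟨i, rfl⟩
  refine ⟨F' i, funext fun C => ?_⟩
  rw [Matrix.mulVecLin_apply, hop]
  simp only [hFF]
  refine Eq.trans ?_ (hfix i _)
  exact Finset.sum_congr rfl fun w _ => by rw [blockIdemBar, coeff_red]

/-- The dimension of the corner of an idempotent is the sum of the squared multiplicities. -/
theorem finrank_corner_eq [Fintype (IrrCharacter G)] {f : MonoidAlgebra (Res M) G} (hf : f * f = f) :
    (Module.finrank (Res M) (LinearMap.range (compr (Res M) f)) : ℤ) =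
      ∑ χ : IrrCharacter G, mult (M := M) (χ : G → ℂ) f ^ 2 := by
  classical
  obtain ⟨q, hq, -, hqr⟩ := exists_lift_idem hf (invUnder_one f)
  set P : Matrix G G (localRing M) := Matrix.of fun g h => (q * single h 1 * q).coeff g with hP
  have hlin : ∀ a : MonoidAlgebra (localRing M) G, ∀ g,
      (q * a * q).coeff g = ∑ h, a.coeff h * P g h := by
    intro a g
    conv_lhs => rw [show a = ∑ h, a.coeff h • single h (1 : localRing M) from MonoidAlgebra.ext
      (Finsupp.ext fun x => by simp [MonoidAlgebra.coeff_single, Finsupp.single_apply])]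
    rw [Finset.mul_sum, Finset.sum_mul, MonoidAlgebra.coeff_sum, Finsupp.coe_finsetSum, Finset.sum_apply]
    refine Finset.sum_congr rfl fun h _ => ?_
    rw [mul_smul_comm, smul_mul_assoc, coeff_smul, Finsupp.smul_apply, smul_eq_mul, hP, Matrix.of_apply]
  have hPP : P * P = P := by
    ext g h
    have h1 := hlin (q * single h 1 * q) g
    rw [show q * (q * single h 1 * q) * q = q * single h 1 * q by
      rw [← mul_assoc, ← mul_assoc, hq, mul_assoc (q * single h 1), hq]] at h1
    refine congrArg Subtype.val ?_
    rw [Matrix.mul_apply]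
    refine Eq.trans ?_ h1.symm
    exact Finset.sum_congr rfl fun x _ => mul_comm _ _
  have hQ : (P.map (resHom M)).rank = Module.finrank (Res M) (LinearMap.range (compr (Res M) f)) := by
    let e : (G → Res M) ≃ₗ[Res M] MonoidAlgebra (Res M) G :=
      (Finsupp.linearEquivFunOnFinite (Res M) (Res M) G).symm ≪≫ₗ
        (MonoidAlgebra.coeffLinearEquiv (Res M)).symm
    have hconj : ∀ v, e ((P.map (resHom M)).mulVec v) = compr (Res M) f (e v) := by
      intro v
      have hev : ∀ (u : G → Res M) g, (e u).coeff g = u g := fun u g => rfl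
      have hexp : e v = ∑ h, v h • single h (1 : Res M) := MonoidAlgebra.ext (Finsupp.ext fun x => by
        simp [hev, MonoidAlgebra.coeff_sum, MonoidAlgebra.coeff_single, Finsupp.single_apply])
      refine MonoidAlgebra.ext (Finsupp.ext fun g => ?_)
      rw [hev, hexp, map_sum, MonoidAlgebra.coeff_sum, Finsupp.coe_finsetSum, Finset.sum_apply]
      refine Finset.sum_congr rfl fun h _ => ?_
      show (P.map (resHom M)) g h * v h = _
      rw [map_smul, compr_apply, Matrix.map_apply, coeff_smul, Finsupp.smul_apply, smul_eq_mul,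
        mul_comm]
      congr 1
      rw [hP, Matrix.of_apply, ← hqr, ← coeff_red, map_mul, map_mul, red_single, map_one]
    rw [Matrix.rank, ← LinearEquiv.finrank_map_eq e]
    refine congrArg (fun S : Submodule (Res M) (MonoidAlgebra (Res M) G) =>
      Module.finrank (Res M) S) ?_
    ext x
    simp only [Submodule.mem_map, LinearMap.mem_range, Matrix.mulVecLin_apply]
    constructor
    · rintro ⟨_, ⟨v, rfl⟩, rfl⟩
      exact ⟨e v, (hconj v).symm⟩
    · rintro ⟨y, rfl⟩
      obtain ⟨v, rfl⟩ := e.surjective y
      exact ⟨_, ⟨v, rfl⟩, hconj v⟩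
  rw [← hQ, rank_residue_eq P hPP]
  -- the rank is the trace
  set Q := P.map (localRing M).subtype with hQdef
  have hQQ : Q * Q = Q := by rw [hQdef, ← Matrix.map_mul, hPP]
  have hproj : LinearMap.IsProj (LinearMap.range (Matrix.toLin' Q)) (Matrix.toLin' Q) := by
    refine ⟨fun v => ⟨v, rfl⟩, ?_⟩
    rintro _ ⟨v, rfl⟩
    rw [← LinearMap.comp_apply, ← Matrix.toLin'_mul, hQQ]
  refine Int.cast_injective (α := ℂ) ?_
  have h0 : (Q.rank : ℂ) = Q.trace := by
    rw [← Matrix.trace_toLin'_eq, hproj.trace]
    rfl
  push_cast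
  rw [h0]
  have hm : ∀ χ : IrrCharacter G, (mult (M := M) (χ : G → ℂ) f : ℂ) =
      ∑ u, (q.coeff u : ℂ) * (χ : G → ℂ) u := fun χ => by
    rw [mult_cast hM χ hf, sv_eq hM χ (isPPart_one hM) hf (invUnder_one _) hq (invUnder_one _)
      (by rw [hqr]), tr]
    simp
  simp only [hm, sq, Finset.sum_mul_sum]
  have hentry : ∀ g, Q g g = ∑ u, (q.coeff u : ℂ) * (q.coeff (g⁻¹ * u⁻¹ * g) : ℂ) := by
    intro g
    rw [hQdef, Matrix.map_apply, hP, Matrix.of_apply, mul_assoc, coeff_mul_eq_sum, map_sum]
    refine Finset.sum_congr rfl fun u _ => ?_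
    rw [map_mul, Subring.subtype_apply, Subring.subtype_apply]
    congr 2
    rw [coeff_mul_eq_sum, Finset.sum_eq_single g]
    · rw [MonoidAlgebra.coeff_single, Finsupp.single_eq_same, one_mul, mul_assoc]
    · intro b _ hb; simp [MonoidAlgebra.coeff_single, hb]
    · simp
  simp only [Matrix.trace, Matrix.diag_apply, hentry]
  rw [Finset.sum_comm, Finset.sum_comm (s := (Finset.univ : Finset (IrrCharacter G)))]
  refine Finset.sum_congr rfl fun u _ => ?_
  rw [Finset.sum_comm]
  symm
  calc ∑ v : G, ∑ χ : IrrCharacter G,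
        (q.coeff u : ℂ) * (χ : G → ℂ) u * ((q.coeff v : ℂ) * (χ : G → ℂ) v)
      = ∑ v : G, ∑ g ∈ Finset.univ.filter (fun g : G => g * u * g⁻¹ = v⁻¹),
          (q.coeff u : ℂ) * (q.coeff v : ℂ) := by
        refine Finset.sum_congr rfl fun v _ => ?_
        rw [Finset.sum_const, nsmul_eq_mul, ← column_count u v⁻¹, Finset.sum_mul]
        refine Finset.sum_congr rfl fun χ _ => ?_
        rw [← Char.IsIrr.map_inv χ.2, inv_inv]
        ring
    _ = ∑ g : G, (q.coeff u : ℂ) * (q.coeff (g⁻¹ * u⁻¹ * g) : ℂ) := by
        simp only [Finset.sum_filter]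
        rw [Finset.sum_comm]
        refine Fintype.sum_equiv (Equiv.inv G) _ _ fun g => ?_
        rw [Equiv.inv_apply, inv_inv, Finset.sum_eq_single (g * u⁻¹ * g⁻¹)]
        · rw [if_pos (by group)]
        · intro v _ hv
          rw [if_neg fun h => hv ?_]
          rw [← inv_inv v, ← h]
          group
        · exact fun h => absurd (Finset.mem_univ _) h

/-- **Brandt, Külshammer**: in a block with one Brauer character and `k ≤ 4` characters the squares
of the decomposition numbers sum to at most `k`. -/
theorem sum_sq_dec_le_card [Fintype (IrrCharacter G)] (D : Data G M) {B : Set (IrrCharacter G)}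
    (hB : IsPBlock M B) {k : ℕ}
    (hk4 : k ≤ 4 ∨ ∃ Q : Subgroup G, IsDefectGroup p M B Q ∧ IsCyclic Q)
    (hk : Nat.card B ≤ k) {δ : Fin D.n}
    (hδ : D.block hM δ = B) (huniq : ∀ δ', D.block hM δ' = B → δ' = δ) :
    ∑ χ : IrrCharacter G, D.dec χ δ ^ 2 ≤ k := by
  classical
  have hne := NeZero.ne (D.d δ)
  set e := blockIdemBar M B with he
  set f := D.ε δ * e with hfdef
  have hec : ∀ a, e * a = a * e := fun a => ((isCentralElt_blockIdemBar hB).commute a).eq
  have hee : e * e = e := blockIdemBar_mul_self hB
  have hf : f * f = f := by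
    rw [hfdef, mul_assoc, ← mul_assoc e, hec (D.ε δ), mul_assoc (D.ε δ) e, hee, ← mul_assoc, D.hε]
  have hef : e * f = f := by rw [hfdef, ← mul_assoc, hec, mul_assoc, hee]
  have hψf : ∀ δ', D.ψ f δ' = D.ψ (D.ε δ) δ' := fun δ' => by
    rw [hfdef, map_mul, Pi.mul_apply]
    by_cases h : δ' = δ
    · subst h; rw [D.psi_blockIdemBar hM hB hδ, mul_one]
    · rw [D.hεψ, Pi.single_eq_of_ne h, zero_mul]
  -- the corner has the dimension of the sum
  have hdim : (Module.finrank (Res M) (LinearMap.range (compr (Res M) f)) : ℤ) =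
      ∑ χ : IrrCharacter G, (D.dec χ δ : ℤ) ^ 2 := by
    rw [finrank_corner_eq hM hf]
    refine Finset.sum_congr rfl fun χ _ => ?_
    rw [D.mult_eq_sum hM χ hf, Finset.sum_eq_single δ]
    · simp [Data.rk, hψf, D.hεψ, rank_single_one]
    · intro b _ hb
      simp [Data.rk, hψf, D.hεψ, Pi.single_eq_of_ne hb]
    · simp
  suffices h : Module.finrank (Res M) (LinearMap.range (compr (Res M) f)) ≤ k by
    have h' : (∑ χ : IrrCharacter G, (D.dec χ δ : ℤ) ^ 2) ≤ k := hdim ▸ (by exact_mod_cast h)
    exact_mod_cast h'
  -- the augmentation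
  let π : MonoidAlgebra (Res M) G →ₗ[Res M] Res M :=
    Matrix.entryLinearMap (Res M) (Res M) (0 : Fin (D.d δ)) 0 ∘ₗ LinearMap.proj δ ∘ₗ D.ψ.toLinearMap
  have hπ : ∀ x, π x = D.ψ x δ 0 0 := fun x => rfl
  have hmem : ∀ a ∈ LinearMap.range (compr (Res M) f),
      D.ψ a = Pi.single δ (Matrix.single 0 0 (π a)) := by
    intro a ha
    have h := (mem_range_compr hf).1 ha
    funext b
    rw [hπ, ← h]
    simp only [map_mul, Pi.mul_apply, hψf]
    by_cases hb : b = δ
    · subst hb
      rw [D.hεψ, Pi.single_eq_same, Pi.single_eq_same, Matrix.single_mul_mul_single, one_mul, mul_one,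
        Matrix.single_apply_same]
    · rw [D.hεψ, Pi.single_eq_of_ne hb, Pi.single_eq_of_ne hb, zero_mul, zero_mul]
  obtain ⟨N, hN⟩ : ∃ N, (Ring.jacobson (MonoidAlgebra (Res M) G)) ^ N = ⊥ := by
    have : IsArtinianRing (MonoidAlgebra (Res M) G) := IsArtinianRing.of_finite (Res M) _
    obtain ⟨N, hN⟩ := IsArtinianRing.isNilpotent_jacobson_bot (R := MonoidAlgebra (Res M) G)
    rw [Ideal.jacobson_bot] at hN
    exact ⟨N, hN⟩
  have hker : ∀ x, D.ψ x = 0 → x ∈ Ring.jacobson (MonoidAlgebra (Res M) G) := by
    intro x hx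
    rw [← Ideal.jacobson_bot, Ideal.mem_jacobson_iff]
    intro y
    have hn : IsNilpotent (-(y * x)) := (D.nil _ (by rw [map_mul, hx, mul_zero])).neg
    obtain ⟨u, hu⟩ := hn.isUnit_one_sub
    refine ⟨↑u⁻¹, ?_⟩
    rw [Ideal.mem_bot, mul_assoc, show (↑u⁻¹ : MonoidAlgebra (Res M) G) * (y * x) + ↑u⁻¹ - 1 =
      ↑u⁻¹ * (1 - -(y * x)) - 1 by rw [mul_sub, mul_one, mul_neg]; abel, ← hu, Units.inv_mul, sub_self]
  set R := (Ring.jacobson (MonoidAlgebra (Res M) G)).restrictScalars (Res M) with hRdef
  have hR : ∀ n, 1 ≤ n → R ^ n ≤ ((Ring.jacobson (MonoidAlgebra (Res M) G)) ^ n).restrictScalars (Res M) := by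
    intro n hn
    induction n with
    | zero => omega
    | succ n ih =>
      rcases Nat.eq_zero_or_pos n with rfl | hn'
      · simp [hRdef, Submodule.pow_one]
      rw [pow_succ, Submodule.mul_le]
      intro a ha b hb
      rw [Submodule.restrictScalars_mem, Submodule.pow_succ]
      exact Ideal.mul_mem_mul (ih hn' ha) hb
  have hR' : R ^ (N + 1) = ⊥ := by
    refine eq_bot_iff.2 ((hR (N + 1) (by omega)).trans ?_)
    intro a ha
    rw [Submodule.restrictScalars_mem, Submodule.pow_succ, hN, Ideal.bot_mul, Ideal.mem_bot] at ha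
    exact ha
  -- the symmetrizing form
  let s : MonoidAlgebra (Res M) G →ₗ[Res M] Res M :=
    Finsupp.lapply 1 ∘ₗ (MonoidAlgebra.coeffLinearEquiv (Res M)).toLinearMap
  have hs : ∀ x, s x = x.coeff 1 := fun x => rfl
  have hscomm : ∀ a b : MonoidAlgebra (Res M) G, s (a * b) = s (b * a) := by
    intro a b
    rw [hs, hs, coeff_mul_eq_sum, coeff_mul_eq_sum]
    refine Fintype.sum_equiv (Equiv.inv G) _ _ fun x => ?_
    rw [Equiv.inv_apply, inv_inv, mul_one, mul_one, mul_comm]
  have hπf : π f = 1 := by rw [hπ, hψf, D.hεψ, Pi.single_eq_same, Matrix.single_apply_same]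
  have hπmul : ∀ a ∈ LinearMap.range (compr (Res M) f), ∀ b ∈ LinearMap.range (compr (Res M) f),
      π (a * b) = π a * π b := by
    intro a ha b hb
    rw [hπ (a * b), map_mul, Pi.mul_apply, hmem a ha, hmem b hb, Pi.single_eq_same, Pi.single_eq_same,
      Matrix.single_mul_single_same, Matrix.single_apply_same]
  have hcase : k ≤ 4 ∨ ∃ t ∈ LinearMap.range (compr (Res M) f) ⊓ LinearMap.ker π,
      LinearMap.range (compr (Res M) f) ⊓ LinearMap.ker π ≤ Submodule.span (Res M) {t} ⊔
        (LinearMap.range (compr (Res M) f) ⊓ LinearMap.ker π) *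
          (LinearMap.range (compr (Res M) f) ⊓ LinearMap.ker π) := by
    rcases hk4 with h | ⟨Q, hQ, hQc⟩
    · exact Or.inl h
    · obtain ⟨a, ha, hea⟩ := Cyclic1.exists_relTrace hM hB hQ
      have := Star.isAlgClosed_res (M := M)
      have := charP_residueField hM
      exact Or.inr (Cyclic1.exists_generated (IsDefectGroup.isPGroup hQ) ha hea hec hf hef π hπf hπmul)
  refine finrank_corner_le hf π hπf hπmul R hR' ?_ s (fun a _ b _ => hscomm a b) ?_ hcase ?_
  · intro a ha h0
    refine hker a ?_
    rw [hmem a ha, h0, Matrix.single_zero, Pi.single_zero]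
  · intro a ha h
    refine MonoidAlgebra.ext (Finsupp.ext fun g => ?_)
    have hfaf := (mem_range_compr hf).1 ha
    have h1 : s (a * single g⁻¹ 1) = 0 := by
      rw [show a * single g⁻¹ 1 = (f * a * f) * single g⁻¹ 1 by rw [hfaf]]
      rw [show f * a * f * single g⁻¹ 1 = f * (a * (f * single g⁻¹ 1)) by simp only [mul_assoc],
        hscomm, show a * (f * single g⁻¹ 1) * f = a * (f * single g⁻¹ 1 * f) by simp only [mul_assoc]]
      exact h _ ⟨single g⁻¹ 1, compr_apply f _⟩
    rw [hs, coeff_mul_eq_sum, Finset.sum_eq_single g] at h1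
    · simpa [MonoidAlgebra.coeff_single] using h1
    · intro b _ hb
      rw [MonoidAlgebra.coeff_single, Finsupp.single_eq_of_ne, mul_zero]
      simpa [inv_inj] using hb
    · simp
  -- traces
  intro τ hτ
  by_contra hcon
  push Not at hcon
  -- the unit of the block is in the ideal generated by the idempotent
  obtain ⟨J, u, v, hu, huv⟩ : ∃ (J : Finset (Fin (D.d δ))) (u v : Fin (D.d δ) → MonoidAlgebra (Res M) G),
      (∀ i ∈ J, e * u i = u i) ∧ e = ∑ i ∈ J, u i * f * v i := by
    choose a ha using fun i : Fin (D.d δ) => D.surj (Pi.single δ (Matrix.single i 0 1))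
    choose c hc using fun i : Fin (D.d δ) => D.surj (Pi.single δ (Matrix.single 0 i 1))
    set S0 := ∑ i, e * a i * f * c i with hS0
    have hψS : D.ψ (e - S0) = 0 := by
      funext b
      rw [map_sub, Pi.sub_apply, hS0, map_sum, Finset.sum_apply, Pi.zero_apply]
      simp only [map_mul, Pi.mul_apply, hψf, D.hεψ, ha, hc]
      by_cases hb : b = δ
      · subst hb
        simp only [he, D.psi_blockIdemBar hM hB hδ, Pi.single_eq_same, one_mul,
          Matrix.single_mul_single_same, mul_one]
        rw [sub_eq_zero]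
        ext i j
        by_cases hij : i = j
        · subst hij
          simp [Matrix.sum_apply, Matrix.single_apply, Matrix.one_apply]
        · simp [Matrix.sum_apply, Matrix.single_apply, hij,
            show ∀ x, ¬ (x = i ∧ x = j) from fun x h => hij (h.1.symm.trans h.2)]
      · simp [Pi.single_eq_of_ne hb, he, D.psi_blockIdemBar_of_ne hM hB (fun h => hb (huniq b h))]
    set n := e - S0 with hn
    obtain ⟨m, hm⟩ := D.nil n hψS
    set S := ∑ t ∈ Finset.range (m + 1), n ^ t
    have hen : e * n = n := by
      rw [hn, mul_sub, hee, hS0, Finset.mul_sum]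
      simp only [← mul_assoc, hee]
    have hkey : e = S0 * (S * e) := by
      have h1 : (1 - n) * S = 1 := by
        rw [mul_neg_geom_sum, pow_succ, hm, zero_mul, sub_zero]
      have h2 : S0 = e * (1 - n) := by rw [mul_sub, mul_one, hen, hn]; abel
      rw [h2, ← mul_assoc, mul_assoc e, h1, mul_one, hee]
    refine ⟨Finset.univ, fun i => e * a i, fun i => c i * (S * e), fun i _ => by rw [← mul_assoc, hee], ?_⟩
    conv_lhs => rw [hkey, hS0, Finset.sum_mul]
    simp only [mul_assoc]
  have hUmem : ∀ a b c : MonoidAlgebra (Res M) G, f * a * b * c * f ∈ LinearMap.range (compr (Res M) f) :=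
    fun a b c => ⟨a * b * c, by rw [compr_apply]; simp only [mul_assoc]⟩
  let TT : Fin (k + 1) → (MonoidAlgebra (Res M) G →ₗ[Res M] Res M) := fun i =>
    ∑ j ∈ J, τ i ∘ₗ (LinearMap.mulLeft (Res M) (f * v j) ∘ₗ LinearMap.mulRight (Res M) (u j * f))
  have hTTa : ∀ i x, TT i x = ∑ j ∈ J, τ i (f * v j * x * u j * f) := fun i x => by
    simp [TT, mul_assoc]
  have hfacts : ∀ (x : MonoidAlgebra (Res M) G) j, j ∈ J → x * e * u j = x * u j := fun x j hj => by
    rw [mul_assoc, hu j hj]
  have hTT : ∀ i (x y : MonoidAlgebra (Res M) G), TT i (x * y) = TT i (y * x) := by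
    intro i x y
    have key : ∀ x y : MonoidAlgebra (Res M) G, TT i (x * y) = ∑ j ∈ J, ∑ l ∈ J,
        τ i ((f * v j * x * u l * f) * (f * v l * y * u j * f)) := by
      intro x y
      rw [hTTa]
      refine Finset.sum_congr rfl fun j hj => ?_
      rw [← map_sum]
      congr 1
      calc f * v j * (x * y) * u j * f = f * v j * x * (e * (y * u j)) * f := by
            rw [← mul_assoc e, hec y, mul_assoc y, hu j hj]; simp only [mul_assoc]
        _ = f * v j * x * ((∑ l ∈ J, u l * f * v l) * (y * u j)) * f := by rw [← huv]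
        _ = _ := by
            simp only [Finset.mul_sum, Finset.sum_mul]
            refine Finset.sum_congr rfl fun l _ => ?_
            rw [show f * v j * x * u l * f * (f * v l * y * u j * f) =
              f * v j * x * u l * (f * f) * (v l * y * u j * f) by simp only [mul_assoc], hf]
            simp only [mul_assoc]
    rw [key, key, Finset.sum_comm]
    refine Finset.sum_congr rfl fun l _ => Finset.sum_congr rfl fun j _ => ?_
    exact hτ i _ (hUmem _ _ _) _ (hUmem _ _ _)
  have hTU : ∀ i, ∀ a ∈ LinearMap.range (compr (Res M) f), TT i a = τ i a := by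
    intro i a ha
    have hfa := left_mul_of_mem hf ha
    have haf := right_mul_of_mem hf ha
    rw [hTTa]
    have hterm : ∀ j ∈ J, τ i (f * v j * a * u j * f) = τ i (a * (f * (u j * f * v j) * f)) := by
      intro j _
      have hX : f * v j * f ∈ LinearMap.range (compr (Res M) f) := ⟨v j, compr_apply f _⟩
      have hY : f * u j * f ∈ LinearMap.range (compr (Res M) f) := ⟨u j, compr_apply f _⟩
      calc τ i (f * v j * a * u j * f) = τ i ((f * v j * f) * (a * (f * u j * f))) := by
            congr 1
            conv_lhs => rw [← hfa, ← haf]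
            rw [← mul_assoc a (f * u j) f]
            simp only [mul_assoc]
        _ = τ i ((a * (f * u j * f)) * (f * v j * f)) := hτ i _ hX _ (mul_mem_corner hf ha hY)
        _ = τ i (a * (f * (u j * f * v j) * f)) := by
            congr 1
            rw [show a * (f * u j * f) * (f * v j * f) = a * (f * u j * (f * f) * v j * f) by
              simp only [mul_assoc], hf]
            simp only [mul_assoc]
    rw [Finset.sum_congr rfl hterm, ← map_sum]
    congr 1
    rw [← Finset.mul_sum, ← Finset.sum_mul, ← Finset.mul_sum, ← huv, ← hec f, mul_assoc, hf, hef, haf]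
  let F : Fin (k + 1) → G → Res M := fun i x => TT i (single x 1)
  have hli : LinearIndependent (Res M) F := by
    rw [Fintype.linearIndependent_iff]
    by_contra hne'
    push Not at hne'
    obtain ⟨c, hc, i, hi⟩ := hne'
    obtain ⟨a, ha, hane⟩ := hcon c (fun h => hi (congrFun h i))
    refine hane ?_
    have hsum : ∑ i, c i • TT i = 0 := by
      refine MonoidAlgebra.lhom_ext' fun x => LinearMap.ext_ring ?_
      have h := congrFun hc x
      simpa [F, Finset.sum_apply] using h
    have h := LinearMap.congr_fun hsum a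
    simp only [LinearMap.coe_sum, Finset.sum_apply, LinearMap.smul_apply, smul_eq_mul,
      LinearMap.zero_apply, hTU _ a ha] at h
    exact h
  have h3 := card_le_of_fixed hM hB F (fun i g h => by
    show TT i (single (h * g * h⁻¹) 1) = TT i (single g 1)
    rw [show single (h * g * h⁻¹) (1 : Res M) = single h 1 * single (g * h⁻¹) 1 by
      rw [single_mul_single, mul_one, mul_assoc], hTT, single_mul_single, mul_one,
      inv_mul_cancel_right])
    (fun i x => by
      show ∑ w, e.coeff w * TT i (single (w * x) 1) = TT i (single x 1)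
      calc ∑ w, e.coeff w * TT i (single (w * x) 1)
          = TT i ((∑ w, e.coeff w • single w 1) * single x 1) := by
            rw [Finset.sum_mul, map_sum]
            refine Finset.sum_congr rfl fun w _ => ?_
            rw [smul_mul_assoc, single_mul_single, one_mul, map_smul, smul_eq_mul]
        _ = TT i (e * single x 1) := by
            congr 2
            exact MonoidAlgebra.ext (Finsupp.ext fun y => by
              simp [MonoidAlgebra.coeff_single, Finsupp.single_apply])
        _ = TT i (single x 1) := by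
            rw [hTTa, hTTa]
            refine Finset.sum_congr rfl fun j hj => ?_
            rw [hec, mul_assoc (f * v j), mul_assoc (single x 1), hu j hj, ← mul_assoc (f * v j)])
    hli
  rw [Fintype.card_fin] at h3
  omega

/-- A block with at most two characters and one irreducible Brauer character has decomposition
numbers of square sum at most two. -/
theorem sum_sq_dec_le_two [Fintype (IrrCharacter G)] (D : Data G M) {B : Set (IrrCharacter G)}
    (hB : IsPBlock M B) (hk : Nat.card B ≤ 2) {δ : Fin D.n} (hδ : D.block hM δ = B)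
    (huniq : ∀ δ', D.block hM δ' = B → δ' = δ) :
    ∑ χ : IrrCharacter G, D.dec χ δ ^ 2 ≤ 2 :=
  sum_sq_dec_le_card hM D hB (Or.inl (by norm_num)) hk hδ huniq

end CfsgLib.IBr
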