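import Cfsg.Agent.Lib.Blocks.Star.Corner
import Mathlib.LinearAlgebra.Matrix.Rank

/-!
# Additive functions on idempotents are combinations of ranks

For a finite dimensional algebra with a surjection onto a product of matrix algebras with nil
kernel, an additive function on idempotents that is constant on equivalent idempotents is the
combination of the ranks in the factors with its values at lifts of rank one idempotents.  An
automorphism of the algebra therefore permutes the rank functions.
-/

namespace CfsgLib.IBr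

open Matrix CfsgLib.Star

variable {k : Type*} [Field k]

theorem rank_add_of_orthogonal {m : Type*} [Fintype m] [DecidableEq m] {P Q : Matrix m m k}
    (hP : P * P = P) (hQ : Q * Q = Q) (hPQ : P * Q = 0) (hQP : Q * P = 0) :
    (P + Q).rank = P.rank + Q.rank := by
  have hP' : P.mulVecLin.comp P.mulVecLin = P.mulVecLin := by rw [← Matrix.mulVecLin_mul, hP]
  have hQ' : Q.mulVecLin.comp Q.mulVecLin = Q.mulVecLin := by rw [← Matrix.mulVecLin_mul, hQ]
  have hPQ' : P.mulVecLin.comp Q.mulVecLin = 0 := by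
    rw [← Matrix.mulVecLin_mul, hPQ, Matrix.mulVecLin_zero]
  have hQP' : Q.mulVecLin.comp P.mulVecLin = 0 := by
    rw [← Matrix.mulVecLin_mul, hQP, Matrix.mulVecLin_zero]
  have hsup : LinearMap.range (P + Q).mulVecLin =
      LinearMap.range P.mulVecLin ⊔ LinearMap.range Q.mulVecLin := by
    refine le_antisymm ?_ (sup_le ?_ ?_)
    · rintro _ ⟨v, rfl⟩
      rw [Matrix.mulVecLin_add, LinearMap.add_apply]
      exact Submodule.add_mem_sup ⟨v, rfl⟩ ⟨v, rfl⟩
    · rintro _ ⟨v, rfl⟩
      refine ⟨P.mulVecLin v, ?_⟩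
      rw [Matrix.mulVecLin_add, LinearMap.add_apply, ← LinearMap.comp_apply,
        ← LinearMap.comp_apply Q.mulVecLin, hP', hQP', LinearMap.zero_apply, add_zero]
    · rintro _ ⟨v, rfl⟩
      refine ⟨Q.mulVecLin v, ?_⟩
      rw [Matrix.mulVecLin_add, LinearMap.add_apply, ← LinearMap.comp_apply,
        ← LinearMap.comp_apply Q.mulVecLin, hPQ', hQ', LinearMap.zero_apply, zero_add]
  have hinf : LinearMap.range P.mulVecLin ⊓ LinearMap.range Q.mulVecLin = ⊥ := by
    rw [eq_bot_iff]
    rintro v ⟨⟨a, rfl⟩, ⟨b, hb⟩⟩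
    rw [Submodule.mem_bot, ← LinearMap.congr_fun hP' a, LinearMap.comp_apply, ← hb,
      ← LinearMap.comp_apply, hPQ', LinearMap.zero_apply]
  have h := Submodule.finrank_sup_add_finrank_inf_eq (LinearMap.range P.mulVecLin)
    (LinearMap.range Q.mulVecLin)
  rw [hinf, finrank_bot, add_zero, ← hsup] at h
  exact h

theorem rank_mul_comm_of_idem {m : Type*} [Fintype m] [DecidableEq m] {a c : Matrix m m k}
    (h₁ : a * c * (a * c) = a * c) (h₂ : c * a * (c * a) = c * a) :
    (a * c).rank = (c * a).rank := by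
  refine le_antisymm ?_ ?_
  · calc (a * c).rank = (a * (c * a) * c).rank := by
          rw [show a * (c * a) * c = a * c * (a * c) by simp only [mul_assoc], h₁]
      _ ≤ (a * (c * a)).rank := Matrix.rank_mul_le_left _ _
      _ ≤ (c * a).rank := Matrix.rank_mul_le_right _ _
  · calc (c * a).rank = (c * (a * c) * a).rank := by
          rw [show c * (a * c) * a = c * a * (c * a) by simp only [mul_assoc], h₂]
      _ ≤ (c * (a * c)).rank := Matrix.rank_mul_le_left _ _
      _ ≤ (a * c).rank := Matrix.rank_mul_le_right _ _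

theorem rank_single_one {d : ℕ} [NeZero d] :
    (Matrix.single (0 : Fin d) (0 : Fin d) (1 : k)).rank = 1 := by
  classical
  rw [show Matrix.single (0 : Fin d) (0 : Fin d) (1 : k) = Matrix.diagonal (Pi.single 0 1) by
    ext i j
    by_cases h : i = j
    · subst h
      by_cases h0 : i = 0
      · subst h0; simp
      · simp [h0, Ne.symm h0]
    · rw [Matrix.diagonal_apply_ne _ h, Matrix.single_apply_of_ne]
      rintro ⟨rfl, rfl⟩
      exact h rfl, Matrix.rank_diagonal]
  rw [Fintype.card_eq_one_iff]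
  exact ⟨⟨0, by simp⟩, fun x => Subtype.ext (by
    by_contra h
    exact x.2 (Pi.single_eq_of_ne h _))⟩

variable {A : Type*} [Ring A] [Algebra k A] [FiniteDimensional k A]
  {n : ℕ} {d : Fin n → ℕ} [∀ i, NeZero (d i)]
  {ψ : A →ₐ[k] Π i, Matrix (Fin (d i)) (Fin (d i)) k}
  (hsurj : Function.Surjective ψ) (hnil : ∀ x, ψ x = 0 → IsNilpotent x)
include hsurj hnil

omit [FiniteDimensional k A] in
theorem exists_single_lift (δ : Fin n) :
    ∃ e : A, e * e = e ∧ ψ e = Pi.single δ (Matrix.single 0 0 1) := by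
  obtain ⟨e, he, hey⟩ := exists_isIdempotentElem_eq_of_ker_isNilpotent ψ.toRingHom
    (fun x hx => hnil x hx) _ (hsurj (Pi.single δ (Matrix.single 0 0 1)))
    (by rw [IsIdempotentElem, ← Pi.single_mul]; simp)
  exact ⟨e, he, hey⟩

/-- An additive function on idempotents is the combination of the ranks with its values at lifts
of rank one idempotents. -/
theorem additive_eq_sum_rank {ε : Fin n → A} (hε : ∀ δ, ε δ * ε δ = ε δ)
    (hεψ : ∀ δ, ψ (ε δ) = Pi.single δ (Matrix.single 0 0 1)) (N : A → ℤ)
    (hadd : ∀ e f : A, e * e = e → f * f = f → e * f = 0 → f * e = 0 → N (e + f) = N e + N f)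
    (hequiv : ∀ a c : A, a * c * (a * c) = a * c → c * a * (c * a) = c * a → N (a * c) = N (c * a))
    (e : A) (he : e * e = e) : N e = ∑ δ, ((ψ e δ).rank : ℤ) * N (ε δ) := by
  classical
  have hnil' : ∀ x, ψ.toRingHom x = 0 → IsNilpotent x := hnil
  have hN0 : N 0 = 0 := by
    simpa using hadd 0 0 (mul_zero 0) (mul_zero 0) (mul_zero 0) (mul_zero 0)
  induction hm : Module.finrank k (LinearMap.range (LinearMap.mulLeft k e)) using
    Nat.strong_induction_on generalizing e with
  | _ m ih =>
    by_cases h0 : ψ e = 0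
    · have : e = 0 := IsIdempotentElem.eq_zero_of_isNilpotent he (hnil e h0)
      subst this
      simp [hN0]
    obtain ⟨δ, hδ⟩ := Function.ne_iff.1 h0
    have hP : ψ e δ * ψ e δ = ψ e δ := by rw [← Pi.mul_apply, ← map_mul, he]
    obtain ⟨E, a, c, hEE, hPE, hEP, hac, hca⟩ := exists_rank_one_le (0 : Fin (d δ)) hP hδ
    set y : Π i, Matrix (Fin (d i)) (Fin (d i)) k := Pi.single δ E with hy
    have hye : ψ e * y = y := funext fun b => by
      by_cases hb : b = δ
      · subst hb; simp [hy, hPE]
      · simp [hy, Pi.single_eq_of_ne hb]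
    have hey : y * ψ e = y := funext fun b => by
      by_cases hb : b = δ
      · subst hb; simp [hy, hEP]
      · simp [hy, Pi.single_eq_of_ne hb]
    obtain ⟨f, hf, hfy, hf2, hf1⟩ := exists_isIdempotentElem_mul_eq_zero_of_ker_isNilpotent
      ψ.toRingHom (fun x hx => hnil x hx) y (hsurj y)
      (show y * y = y by rw [hy, ← Pi.single_mul, hEE]) (1 - e) (IsIdempotentElem.one_sub he)
      (show y * ψ (1 - e) = 0 by rw [map_sub, map_one, mul_sub, mul_one, hey, sub_self])
      (show ψ (1 - e) * y = 0 by rw [map_sub, map_one, sub_mul, one_mul, hye, sub_self])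
    rw [sub_mul, one_mul, sub_eq_zero] at hf1
    rw [mul_sub, mul_one, sub_eq_zero] at hf2
    have hfψ : ψ f = y := hfy
    have hf0 : f ≠ 0 := by
      intro h
      rw [h, map_zero] at hfψ
      have hE0 : E = 0 := by simpa [hy] using (congrFun hfψ δ).symm
      have h1 : a * c * (a * c) = 0 := by
        rw [mul_assoc a, ← mul_assoc c, hca, hE0, zero_mul, mul_zero]
      rw [hac, Matrix.single_mul_single_same, mul_one] at h1
      simpa using congrFun (congrFun h1 0) 0
    obtain ⟨u, v, huv, hvu⟩ := exists_equiv_lift ψ.toRingHom hnil' (hε δ) hf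
      (a := Function.surjInv hsurj (Pi.single δ a)) (c := Function.surjInv hsurj (Pi.single δ c))
      (by simp [Function.surjInv_eq hsurj, ← Pi.single_mul, hac, hεψ])
      (by simp [Function.surjInv_eq hsurj, ← Pi.single_mul, hca, hfψ, hy])
    have hNf : N f = N (ε δ) := by
      rw [← huv, ← hvu]
      exact (hequiv u v (by rw [huv, hε]) (by rw [hvu]; exact hf)).symm
    have hsub : (e - f) * (e - f) = e - f := by
      simp only [sub_mul, mul_sub, he, hf.eq, ← hf1, ← hf2]; abel
    have hlt := finrank_lt_of_sub_idem k he hf hf1.symm hf2.symm hf0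
    have ho1 : f * (e - f) = 0 := by rw [mul_sub, ← hf2, hf.eq, sub_self]
    have ho2 : (e - f) * f = 0 := by rw [sub_mul, ← hf1, hf.eq, sub_self]
    have hih := ih _ (hm ▸ hlt) (e - f) hsub rfl
    have hN : N e = N f + N (e - f) := by
      conv_lhs => rw [show e = f + (e - f) by abel]
      exact hadd f (e - f) hf hsub ho1 ho2
    have hrank : ∀ b, (ψ e b).rank = (ψ f b).rank + (ψ (e - f) b).rank := fun b => by
      conv_lhs => rw [show e = f + (e - f) by abel, map_add, Pi.add_apply]
      exact rank_add_of_orthogonal (by rw [← Pi.mul_apply, ← map_mul, hf.eq])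
        (by rw [← Pi.mul_apply, ← map_mul, hsub])
        (by rw [← Pi.mul_apply, ← map_mul, ho1, map_zero, Pi.zero_apply])
        (by rw [← Pi.mul_apply, ← map_mul, ho2, map_zero, Pi.zero_apply])
    have hrE : (E.rank : ℤ) = 1 := by
      rw [← hca, ← rank_mul_comm_of_idem (by rw [hac]; simp) (by rw [hca, hEE]), hac, rank_single_one]
      rfl
    have hone : ∑ b, ((ψ f b).rank : ℤ) * N (ε b) = N (ε δ) := by
      rw [Finset.sum_eq_single δ]
      · rw [hfψ, hy, Pi.single_eq_same, hrE, one_mul]
      · intro b _ hb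
        simp [hfψ, hy, Pi.single_eq_of_ne hb]
      · simp
    rw [hN, hih, hNf, ← hone, ← Finset.sum_add_distrib]
    refine Finset.sum_congr rfl fun b _ => ?_
    rw [hrank]
    push_cast
    ring

omit [FiniteDimensional k A] in
theorem rank_single_lift {ε : Fin n → A}
    (hεψ : ∀ δ, ψ (ε δ) = Pi.single δ (Matrix.single 0 0 1)) (a b : Fin n) :
    (ψ (ε a) b).rank = if b = a then 1 else 0 := by
  rw [hεψ]
  by_cases h : b = a
  · subst h
    simp [rank_single_one]
  · simp [Pi.single_eq_of_ne h, h]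

/-- An automorphism of the algebra permutes the rank functions. -/
theorem exists_perm_rank (σ : A ≃ₐ[k] A) :
    ∃ π : Equiv.Perm (Fin n), ∀ e : A, e * e = e → ∀ δ,
      (ψ (σ e) δ).rank = (ψ e (π δ)).rank := by
  classical
  choose ε hε hεψ using exists_single_lift hsurj hnil
  have key : ∀ (τ : A ≃ₐ[k] A) (δ : Fin n) (e : A), e * e = e →
      ((ψ (τ e) δ).rank : ℤ) = ∑ b, ((ψ e b).rank : ℤ) * ((ψ (τ (ε b)) δ).rank : ℤ) := fun τ δ =>
    additive_eq_sum_rank hsurj hnil hε hεψ (fun e => ((ψ (τ e) δ).rank : ℤ))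
      (fun e f he hf hef hfe => by
        rw [map_add, map_add, Pi.add_apply, rank_add_of_orthogonal]
        · push_cast; ring
        · rw [← Pi.mul_apply, ← map_mul, ← map_mul, he]
        · rw [← Pi.mul_apply, ← map_mul, ← map_mul, hf]
        · rw [← Pi.mul_apply, ← map_mul, ← map_mul, hef, map_zero, map_zero, Pi.zero_apply]
        · rw [← Pi.mul_apply, ← map_mul, ← map_mul, hfe, map_zero, map_zero, Pi.zero_apply])
      (fun a c h1 h2 => by
        have e1 := congrArg (fun x => ψ (τ x) δ) h1
        have e2 := congrArg (fun x => ψ (τ x) δ) h2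
        simp only [map_mul, Pi.mul_apply] at e1 e2 ⊢
        exact_mod_cast rank_mul_comm_of_idem e1 e2)
  set S : Fin n → Fin n → ℕ := fun δ b => (ψ (σ (ε b)) δ).rank
  set S' : Fin n → Fin n → ℕ := fun δ b => (ψ (σ.symm (ε b)) δ).rank
  have hmulSS : ∀ δ a, ∑ b, S' b a * S δ b = if δ = a then 1 else 0 := by
    intro δ a
    have h := key σ δ (σ.symm (ε a)) (by rw [← map_mul, hε])
    rw [AlgEquiv.apply_symm_apply, rank_single_lift hsurj hnil hεψ] at h
    rw [eq_comm]
    exact_mod_cast h
  have hmulS'S : ∀ δ a, ∑ b, S b a * S' δ b = if δ = a then 1 else 0 := by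
    intro δ a
    have h := key σ.symm δ (σ (ε a)) (by rw [← map_mul, hε])
    rw [AlgEquiv.symm_apply_apply, rank_single_lift hsurj hnil hεψ] at h
    rw [eq_comm]
    exact_mod_cast h
  have hne : ∀ δ, ∃ b, S δ b = 1 ∧ S' b δ = 1 := fun δ => by
    have h1 := hmulSS δ δ
    rw [if_pos rfl] at h1
    obtain ⟨b, -, hb⟩ := Finset.exists_ne_zero_of_sum_ne_zero (h1.trans_ne one_ne_zero)
    have hle : S' b δ * S δ b ≤ 1 := h1 ▸ Finset.single_le_sum (f := fun b => S' b δ * S δ b)
      (fun _ _ => Nat.zero_le _) (Finset.mem_univ b)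
    have h11 := Nat.eq_one_of_mul_eq_one_right
      (show S' b δ * S δ b = 1 by have := Nat.pos_of_ne_zero hb; omega)
    have h12 := Nat.eq_one_of_mul_eq_one_left
      (show S' b δ * S δ b = 1 by have := Nat.pos_of_ne_zero hb; omega)
    exact ⟨b, h12, h11⟩
  choose π hπ hπ' using hne
  have hinj : Function.Injective π := fun δ δ' h => by
    by_contra hne
    have h1 := hmulSS δ δ'
    rw [if_neg hne] at h1
    have := (Finset.sum_eq_zero_iff.1 h1) (π δ) (Finset.mem_univ _)
    rw [hπ, mul_one, h, hπ'] at this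
    exact one_ne_zero this
  have hzero : ∀ δ b, b ≠ π δ → S δ b = 0 := by
    intro δ b hb
    obtain ⟨δ', rfl⟩ := (Finite.injective_iff_surjective.1 hinj) b
    have hne : δ ≠ δ' := fun h => hb (by rw [h])
    have h1 := hmulSS δ δ'
    rw [if_neg hne] at h1
    have := (Finset.sum_eq_zero_iff.1 h1) (π δ') (Finset.mem_univ _)
    rwa [hπ', one_mul] at this
  refine ⟨Equiv.ofBijective π (Finite.injective_iff_bijective.1 hinj), fun e he δ => ?_⟩
  have h := key σ δ e he
  rw [Finset.sum_eq_single (π δ) (fun b _ hb => by rw [show (ψ (σ (ε b)) δ).rank = 0 from hzero δ b hb]; simp)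
    (fun h => absurd (Finset.mem_univ _) h)] at h
  rw [show (ψ (σ (ε (π δ))) δ).rank = 1 from hπ δ, Nat.cast_one, mul_one] at h
  exact_mod_cast h

end CfsgLib.IBr
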