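import Cfsg.Agent.Lib.Blocks.Brauer.Eigen
import Cfsg.Agent.Lib.Blocks.Brauer.Rank
import Cfsg.Agent.Lib.Char.Complete
import Mathlib.LinearAlgebra.Trace
import Mathlib.LinearAlgebra.Matrix.Trace
import Mathlib.LinearAlgebra.Matrix.NonsingularInverse
import Mathlib.LinearAlgebra.Matrix.Charpoly.Coeff
import Mathlib.Algebra.CharP.Lemmas

/-!
# Irreducible Brauer characters

`Data G M` is a split semisimple quotient of the group algebra over the residue field with lifts of
rank one idempotents.  For `δ` one of its factors, `D.phi δ` is the Brauer character (zero at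
singular elements) and `D.dec χ δ` the decomposition number.  The Brauer characters are linearly
independent, each restricted character is their combination with decomposition numbers, each of
them belongs to a block, those of a block are as many as its regular rank, the projective degrees
are multiples of the `p`-part of the group order, and automorphisms of the group permute them.
-/

set_option autoImplicit false

universe u

namespace CfsgLib.IBr

open Cfsg MonoidAlgebra CfsgLib.Blocks CfsgLib.Pairs CfsgLib.Star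

variable {G : Type u} [Group G] {p : ℕ} {M : Ideal AlgInt} [M.IsPrime]

/-- A split semisimple quotient of the group algebra with lifts of rank one idempotents. -/
structure Data (G : Type u) [Group G] (M : Ideal AlgInt) [M.IsPrime] : Type u where
  /-- The number of simple factors. -/
  n : ℕ
  /-- The dimensions of the simple modules. -/
  d : Fin n → ℕ
  /-- The quotient map. -/
  ψ : MonoidAlgebra (Res M) G →ₐ[Res M] (Π i, Matrix (Fin (d i)) (Fin (d i)) (Res M))
  /-- Lifts of rank one idempotents. -/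
  ε : Fin n → MonoidAlgebra (Res M) G
  hd : ∀ i, NeZero (d i)
  surj : Function.Surjective ψ
  nil : ∀ x, ψ x = 0 → IsNilpotent x
  hε : ∀ i, ε i * ε i = ε i
  hεψ : ∀ i, ψ (ε i) = Pi.single i (Matrix.single 0 0 1)

theorem nonempty_data [Finite G] : Nonempty (Data G M) := by
  classical
  have := isAlgClosed_res (M := M)
  obtain ⟨n, d, ψ, hd, hs, hn⟩ := exists_matrix_quotient (k := Res M) (A := MonoidAlgebra (Res M) G)
  choose ε hε hεψ using exists_single_lift hs hn
  exact ⟨⟨n, d, ψ, ε, hd, hs, hn, hε, hεψ⟩⟩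

namespace Data

attribute [instance] Data.hd

variable (D : Data G M)

/-- The rank in a factor. -/
noncomputable def rk (δ : Fin D.n) (e : MonoidAlgebra (Res M) G) : ℤ := ((D.ψ e δ).rank : ℤ)

/-- The trace in a factor. -/
noncomputable def tau (δ : Fin D.n) : MonoidAlgebra (Res M) G →ₗ[Res M] Res M :=
  Matrix.traceLinearMap (Fin (D.d δ)) (Res M) (Res M) ∘ₗ LinearMap.proj δ ∘ₗ D.ψ.toLinearMap

theorem tau_apply (δ : Fin D.n) (a : MonoidAlgebra (Res M) G) :
    D.tau δ a = (D.ψ a δ).trace := rfl

/-- The Brauer character of a factor. -/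
noncomputable def phi (p : ℕ) (δ : Fin D.n) : G → ℂ := brVal p M (D.rk δ)

theorem rk_add (δ : Fin D.n) (e f : MonoidAlgebra (Res M) G) (he : e * e = e) (hf : f * f = f)
    (hef : e * f = 0) (hfe : f * e = 0) : D.rk δ (e + f) = D.rk δ e + D.rk δ f := by
  rw [rk, map_add, Pi.add_apply, rank_add_of_orthogonal, Nat.cast_add]
  · rfl
  all_goals first
    | rw [← Pi.mul_apply, ← map_mul, he]
    | rw [← Pi.mul_apply, ← map_mul, hf]
    | rw [← Pi.mul_apply, ← map_mul, hef, map_zero, Pi.zero_apply]
    | rw [← Pi.mul_apply, ← map_mul, hfe, map_zero, Pi.zero_apply]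

theorem rk_equiv (δ : Fin D.n) (a c : MonoidAlgebra (Res M) G)
    (h1 : a * c * (a * c) = a * c) (h2 : c * a * (c * a) = c * a) :
    D.rk δ (a * c) = D.rk δ (c * a) := by
  have e1 := congrArg (fun x => D.ψ x δ) h1
  have e2 := congrArg (fun x => D.ψ x δ) h2
  simp only [map_mul, Pi.mul_apply, rk] at e1 e2 ⊢
  exact_mod_cast rank_mul_comm_of_idem e1 e2

theorem rk_one (δ : Fin D.n) : D.rk δ 1 = D.d δ := by
  rw [rk, map_one, Pi.one_apply, Matrix.rank_one, Fintype.card_fin]

theorem rk_cast (δ : Fin D.n) {e : MonoidAlgebra (Res M) G} (he : e * e = e) :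
    (D.rk δ e : Res M) = D.tau δ e := by
  have hP : D.ψ e δ * D.ψ e δ = D.ψ e δ := by rw [← Pi.mul_apply, ← map_mul, he]
  have hproj : LinearMap.IsProj (LinearMap.range (Matrix.toLin' (D.ψ e δ)))
      (Matrix.toLin' (D.ψ e δ)) := by
    refine ⟨fun v => ⟨v, rfl⟩, ?_⟩
    rintro _ ⟨v, rfl⟩
    rw [← LinearMap.comp_apply, ← Matrix.toLin'_mul, hP]
  rw [tau_apply, ← Matrix.trace_toLin'_eq, hproj.trace, rk, Int.cast_natCast]
  rfl

theorem phi_singular (δ : Fin D.n) {x : G} (hx : p ∣ orderOf x) : D.phi p δ x = 0 :=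
  brVal_of_singular hx

variable [Fintype G]

theorem phi_isClassFunction (hM : IsPModular p M) (δ : Fin D.n) :
    IsClassFunction G (D.phi p δ) := by
  intro x h
  have ho : orderOf (h * x * h⁻¹) = orderOf x := MulEquiv.orderOf_eq (MulAut.conj h) x
  by_cases hx : p ∣ orderOf x
  · rw [D.phi_singular δ hx, D.phi_singular δ (ho ▸ hx)]
  rw [phi, brVal_of_regular hx, brVal_of_regular (ho ▸ hx), ho]
  refine Finset.sum_congr rfl fun j _ => ?_
  congr 2
  have hπ := eigIdem_sq hM hx j
  have hπ' := eigIdem_sq hM (ho ▸ hx : ¬ p ∣ orderOf (h * x * h⁻¹)) j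
  have hac : single h 1 * eigIdem M x j * (eigIdem M x j * single h⁻¹ 1) =
      eigIdem M (h * x * h⁻¹) j := by
    rw [mul_assoc, ← mul_assoc (eigIdem M x j), hπ, ← mul_assoc, eigIdem_conj]
  have hca : eigIdem M x j * single h⁻¹ 1 * (single h 1 * eigIdem M x j) = eigIdem M x j := by
    rw [mul_assoc, ← mul_assoc (single h⁻¹ 1), single_mul_single, inv_mul_cancel, mul_one,
      ← MonoidAlgebra.one_def, one_mul, hπ]
  rw [← hac, D.rk_equiv δ _ _ (by rw [hac, hπ']) (by rw [hca, hπ]), hca]

theorem phi_one (hM : IsPModular p M) (δ : Fin D.n) : D.phi p δ 1 = D.d δ := by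
  have h1 : ¬ p ∣ orderOf (1 : G) := by simpa using hM.1.ne_one
  have hinv : invO M 1 = (1 : localRing M) := by
    simpa using invO_mul_natCast hM (o := 1) (by simpa using hM.1.ne_one)
  rw [phi, brVal_of_regular h1, orderOf_one, Finset.sum_range_one, pow_zero, one_mul]
  have : eigIdem M (1 : G) 0 = 1 := by
    rw [eigIdem, eigO, orderOf_one, hinv, one_smul, Finset.sum_range_one, pow_zero, map_one]
  rw [this, rk_one, Int.cast_natCast]

/-- The integral value of a Brauer character. -/
noncomputable def phiO (δ : Fin D.n) (x : G) : localRing M :=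
  ∑ j ∈ Finset.range (orderOf x), rootO M (orderOf x) ^ j * (D.rk δ (eigIdem M x j) : localRing M)

omit [Fintype G] in
theorem phiO_coe (δ : Fin D.n) {x : G} (hx : ¬ p ∣ orderOf x) :
    (D.phiO δ x : ℂ) = D.phi p δ x := by
  rw [phi, brVal_of_regular hx, phiO, AddSubmonoidClass.coe_finsetSum]
  simp

theorem phiO_res (hM : IsPModular p M) (δ : Fin D.n) {x : G} (hx : ¬ p ∣ orderOf x) :
    resHom M (D.phiO δ x) = D.tau δ (single x 1) := by
  have ho := (orderOf_pos x).ne'
  have hval : ∀ j, (D.rk δ (eigIdem M x j) : Res M) = resHom M (invO M (orderOf x)) *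
      ∑ t ∈ Finset.range (orderOf x),
        resHom M (((rootO M (orderOf x) ^ (orderOf x - 1)) ^ j) ^ t) *
          D.tau δ (single (x ^ t) 1) := fun j => by
    rw [D.rk_cast δ (eigIdem_sq hM hx j), eigIdem, eigO, Algebra.smul_def, map_mul, map_sum]
    rw [show red M (algebraMap (localRing M) (MonoidAlgebra (localRing M) G) (invO M (orderOf x))) =
      algebraMap (Res M) (MonoidAlgebra (Res M) G) (resHom M (invO M (orderOf x))) by
      simp [red], ← Algebra.smul_def, map_smul, smul_eq_mul, map_sum]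
    congr 1
    refine Finset.sum_congr rfl fun t _ => ?_
    rw [single_pow, red_single, ← smul_eq_mul, ← map_smul, smul_single', mul_one]
  rw [phiO, map_sum]
  calc ∑ j ∈ Finset.range (orderOf x),
      resHom M (rootO M (orderOf x) ^ j * (D.rk δ (eigIdem M x j) : localRing M))
      = resHom M (invO M (orderOf x)) * ∑ j ∈ Finset.range (orderOf x),
          resHom M (rootO M (orderOf x) ^ j) * ∑ t ∈ Finset.range (orderOf x),
            resHom M (((rootO M (orderOf x) ^ (orderOf x - 1)) ^ j) ^ t) *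
              D.tau δ (single (x ^ t) 1) := by
        rw [Finset.mul_sum]
        refine Finset.sum_congr rfl fun j _ => ?_
        rw [map_mul, map_intCast, hval]
        ring
    _ = D.tau δ (single x 1) := by
        rw [inversion (resHom M) ho (isPrimitiveRoot_rootO M ho) fun t => D.tau δ (single (x ^ t) 1),
          ← mul_assoc, pow_mod_orderOf, pow_one, ← map_natCast (resHom M) (orderOf x), ← map_mul,
          invO_mul_natCast hM hx, map_one, one_mul]

/-- Traces only see the regular part. -/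
theorem tau_single_mul [CharP (Res M) p] [Fact p.Prime] (δ : Fin D.n) {u s : G}
    (hu : ∃ k : ℕ, orderOf u = p ^ k) (hc : Commute u s) :
    D.tau δ (single (u * s) 1) = D.tau δ (single s 1) := by
  obtain ⟨k, hk⟩ := hu
  set U := D.ψ (single u 1) δ with hU
  set S := D.ψ (single s 1) δ with hS
  have hUS : D.ψ (single (u * s) 1) δ = U * S := by
    rw [hU, hS, ← Pi.mul_apply, ← map_mul, single_mul_single, mul_one]
  have hUk : U ^ (p ^ k) = 1 := by
    rw [hU, ← Pi.pow_apply, ← map_pow, single_pow, one_pow, ← hk, pow_orderOf_eq_one,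
      ← MonoidAlgebra.one_def, map_one, Pi.one_apply]
  have hnil : IsNilpotent (U - 1) := by
    refine ⟨p ^ k, ?_⟩
    have h := congrArg (Polynomial.aeval U)
      (sub_pow_char_pow (R := Polynomial (Res M)) Polynomial.X (1 : Polynomial (Res M)) (p := p) (n := k))
    simpa [hUk] using h
  have hcomm : Commute (U - 1) S := by
    refine Commute.sub_left ?_ (Commute.one_left S)
    show U * S = S * U
    have h : D.ψ (single u 1 * single s 1) δ = D.ψ (single s 1 * single u 1) δ := by
      rw [single_mul_single, single_mul_single, hc.eq]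
    simpa only [map_mul, Pi.mul_apply] using h
  have h0 : ((U - 1) * S).trace = 0 :=
    (Matrix.isNilpotent_trace_of_isNilpotent (hcomm.isNilpotent_mul_right hnil)).eq_zero
  rw [tau_apply, tau_apply, hUS, ← hS]
  rw [sub_mul, one_mul, Matrix.trace_sub, sub_eq_zero] at h0
  exact h0

variable [Fact p.Prime]

theorem linearIndependent_phi (hM : IsPModular p M) : LinearIndependent ℂ (D.phi p) := by
  classical
  have := charP_residueField hM
  rw [Fintype.linearIndependent_iff]
  intro c hc
  have hdec : ∀ g : G, ∃ s : G, ¬ p ∣ orderOf s ∧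
      ∀ δ, D.tau δ (single g 1) = D.tau δ (single s 1) := fun g => by
    obtain ⟨u, s, hu, hs, hcm, rfl⟩ := exists_decomp (p := p) g
    exact ⟨s, hs, fun δ => D.tau_single_mul δ hu hcm⟩
  choose s hs htau using hdec
  have hlift : ∀ (δ : Fin D.n) (g : G), ∃ a : localRing M, resHom M a = (D.ε δ).coeff g :=
    fun δ g => IsLocalRing.residue_surjective _
  choose a ha using hlift
  set T : Matrix (Fin D.n) (Fin D.n) (localRing M) :=
    fun δ δ' => ∑ g, a δ g * D.phiO δ' (s g)
  have hT : T.map (resHom M) = 1 := by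
    ext δ δ'
    have h1 : resHom M (T δ δ') = D.tau δ' (D.ε δ) := by
      rw [show T δ δ' = ∑ g, a δ g * D.phiO δ' (s g) from rfl, map_sum]
      conv_rhs => rw [show D.ε δ = ∑ g, single g ((D.ε δ).coeff g) from MonoidAlgebra.ext
        (Finsupp.ext fun x => by simp [MonoidAlgebra.coeff_single, Finsupp.single_apply])]
      rw [map_sum]
      refine Finset.sum_congr rfl fun g _ => ?_
      rw [map_mul, ha, D.phiO_res hM δ' (hs g), ← htau, ← smul_eq_mul, ← map_smul, smul_single',
        mul_one]
    rw [Matrix.map_apply, h1, tau_apply, D.hεψ]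
    by_cases h : δ' = δ
    · subst h
      simp
    · simp [Pi.single_eq_of_ne h, Matrix.one_apply_ne (Ne.symm h)]
  have hdet : T.det ≠ 0 := by
    intro h0
    have h := RingHom.map_det (resHom M) T
    rw [h0, map_zero, RingHom.mapMatrix_apply, hT, Matrix.det_one] at h
    exact zero_ne_one h
  have hdetC : (T.map (localRing M).subtype).det ≠ 0 := by
    intro h0
    rw [← RingHom.mapMatrix_apply, ← RingHom.map_det] at h0
    exact hdet (Subtype.ext h0)
  have hmv : (T.map (localRing M).subtype).mulVec c = 0 := by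
    funext δ
    have hcx : ∀ x, ∑ δ', c δ' * D.phi p δ' x = 0 := fun x => by
      simpa [Finset.sum_apply] using congrFun hc x
    show ∑ δ', (localRing M).subtype (∑ g, a δ g * D.phiO δ' (s g)) * c δ' = 0
    simp only [map_sum, map_mul, Subring.subtype_apply, D.phiO_coe (p := p) _ (hs _), Finset.sum_mul]
    rw [Finset.sum_comm]
    refine Finset.sum_eq_zero fun g _ => ?_
    rw [Finset.sum_congr rfl fun δ' _ => mul_assoc _ _ _, ← Finset.mul_sum,
      Finset.sum_congr rfl fun δ' _ => mul_comm _ (c δ'), hcx, mul_zero]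
  exact congrFun (Matrix.eq_zero_of_mulVec_eq_zero hdetC hmv)

/-- The decomposition number of a character. -/
noncomputable def dec (χ : IrrCharacter G) (δ : Fin D.n) : ℕ :=
  (mult (M := M) (χ : G → ℂ) (D.ε δ)).toNat

omit [Fact p.Prime] in
theorem dec_cast (χ : IrrCharacter G) (δ : Fin D.n) :
    (D.dec χ δ : ℤ) = mult (M := M) (χ : G → ℂ) (D.ε δ) :=
  Int.toNat_of_nonneg (mult_nonneg _ _)

variable (hM : IsPModular p M)
include hM

theorem mult_eq_sum (χ : IrrCharacter G) {e : MonoidAlgebra (Res M) G} (he : e * e = e) :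
    mult (M := M) (χ : G → ℂ) e = ∑ δ, D.rk δ e * (D.dec χ δ : ℤ) := by
  simp only [dec_cast]
  exact additive_eq_sum_rank D.surj D.nil D.hε D.hεψ _ (mult_add hM χ) (mult_equiv hM χ) e he

/-- The decomposition of a restricted character into Brauer characters. -/
theorem pRegularPart_eq_sum (χ : IrrCharacter G) :
    pRegularPart p (χ : G → ℂ) = ∑ δ, (D.dec χ δ : ℂ) • D.phi p δ := by
  classical
  rw [← brVal_mult hM χ]
  funext x
  rw [Finset.sum_apply]
  by_cases hx : p ∣ orderOf x
  · simp [brVal_of_singular hx, D.phi_singular _ hx]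
  simp only [Pi.smul_apply, smul_eq_mul, phi, brVal_of_regular hx, Finset.mul_sum]
  rw [Finset.sum_comm]
  refine Finset.sum_congr rfl fun j _ => ?_
  rw [D.mult_eq_sum hM χ (eigIdem_sq hM hx j)]
  push_cast
  rw [Finset.mul_sum]
  exact Finset.sum_congr rfl fun δ _ => by ring

omit [Fact p.Prime] hM in
theorem pRegularPart_phi (δ : Fin D.n) : pRegularPart p (D.phi p δ) = D.phi p δ := by
  funext x
  by_cases hx : p ∣ orderOf x
  · simp [pRegularPart, IsPRegular, hx, D.phi_singular δ hx]
  · simp [pRegularPart, IsPRegular, hx]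

theorem exists_combination (δ : Fin D.n) [Fintype (IrrCharacter G)] :
    ∃ c : IrrCharacter G → ℂ, D.phi p δ = ∑ χ, c χ • pRegularPart p (χ : G → ℂ) := by
  refine ⟨fun χ => classInner (D.phi p δ) (χ : G → ℂ), funext fun x => ?_⟩
  rw [Finset.sum_apply]
  by_cases hx : p ∣ orderOf x
  · simp [D.phi_singular δ hx, pRegularPart, IsPRegular, hx]
  · rw [Char.classFunction_apply_eq_sum (D.phi_isClassFunction hM δ) x]
    simp [pRegularPart, IsPRegular, hx]

/-- Each Brauer character occurs in some character. -/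
theorem exists_dec_ne_zero (δ : Fin D.n) : ∃ χ : IrrCharacter G, D.dec χ δ ≠ 0 := by
  classical
  have := Fintype.ofFinite (IrrCharacter G)
  by_contra h
  push Not at h
  obtain ⟨c, hc⟩ := D.exists_combination hM δ
  have hmem : D.phi p δ ∈ Submodule.span ℂ (D.phi p '' {δ}ᶜ) := by
    rw [hc]
    refine sum_mem fun χ _ => Submodule.smul_mem _ _ ?_
    rw [D.pRegularPart_eq_sum hM χ]
    refine sum_mem fun δ' _ => ?_
    by_cases hd : δ' = δ
    · subst hd; simp [h χ]
    · exact Submodule.smul_mem _ _ (Submodule.subset_span ⟨δ', hd, rfl⟩)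
  exact (linearIndependent_iff_notMem_span.1 (D.linearIndependent_phi hM) δ) (by
    simpa [Set.compl_eq_univ_sdiff] using hmem)

theorem mult_blockIdemBar {B : Set (IrrCharacter G)} (hB : IsPBlock M B) (χ : IrrCharacter G)
    [Decidable (χ ∈ B)] :
    (mult (χ : G → ℂ) (blockIdemBar M B) : ℂ) = if χ ∈ B then (χ : G → ℂ) 1 else 0 := by
  rw [mult_cast hM χ (blockIdemBar_mul_self hB),
    sv_eq hM χ (isPPart_one hM) (blockIdemBar_mul_self hB) (invUnder_one _) (blockIdemO_mul_self hB)
      (invUnder_one _) rfl]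
  have h := omega_blockIdem B χ
  rw [omega_apply, div_eq_iff (Char.IsIrr.apply_one_ne_zero χ.2), ← inc_blockIdemO hB, ite_mul,
    one_mul, zero_mul] at h
  rw [tr, ← h]
  exact Finset.sum_congr rfl fun w _ => by rw [mul_one, coeff_inc]

/-- Each Brauer character belongs to one block. -/
theorem exists_block (δ : Fin D.n) :
    ∃ B, IsPBlock M B ∧ ∀ χ : IrrCharacter G, D.dec χ δ ≠ 0 → χ ∈ B := by
  classical
  have := Fintype.ofFinite {B : Set (IrrCharacter G) // IsPBlock M B}
  obtain ⟨⟨B, hB⟩, -, hne⟩ : ∃ B ∈ (Finset.univ : Finset {B : Set (IrrCharacter G) // IsPBlock M B}),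
      D.ψ (blockIdemBar M B.1) δ ≠ 0 := by
    refine Finset.exists_ne_zero_of_sum_ne_zero ?_
    rw [← Finset.sum_apply, ← map_sum, sum_blockIdemBar, map_one, Pi.one_apply]
    exact one_ne_zero
  refine ⟨B, hB, fun χ hχ => ?_⟩
  by_contra hχB
  have hcomm : ∀ i j : Fin (D.d δ), i ≠ j →
      Commute (Matrix.single i j (1 : Res M)) (D.ψ (blockIdemBar M B) δ) := by
    intro i j _
    obtain ⟨y, hy⟩ := D.surj (Pi.single δ (Matrix.single i j 1))
    have h : y * blockIdemBar M B = blockIdemBar M B * y :=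
      ((isCentralElt_blockIdemBar hB).commute y).symm
    have := congrArg (fun x => D.ψ x δ) h
    show Matrix.single i j 1 * _ = _ * Matrix.single i j 1
    simpa [hy] using this
  obtain ⟨r, hr⟩ := Matrix.mem_range_scalar_of_commute_single hcomm
  have hsq : D.ψ (blockIdemBar M B) δ * D.ψ (blockIdemBar M B) δ = D.ψ (blockIdemBar M B) δ := by
    rw [← Pi.mul_apply, ← map_mul, blockIdemBar_mul_self hB]
  have hψ1 : D.ψ (blockIdemBar M B) δ = 1 := by
    rw [← hr, ← map_mul] at hsq
    have hr' : r * r = r := by simpa [Matrix.scalar_apply] using congrFun (congrFun hsq 0) 0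
    rw [← hr]
    rcases (mul_eq_zero.1 (show r * (r - 1) = 0 by rw [mul_sub, hr', mul_one, sub_self])) with h | h
    · exact absurd (by rw [← hr, h, map_zero]) hne
    · rw [sub_eq_zero.1 h, map_one]
  have hm : (mult (χ : G → ℂ) (blockIdemBar M B) : ℂ) = 0 := by
    rw [mult_blockIdemBar hM hB χ, if_neg hχB]
  rw [Int.cast_eq_zero, D.mult_eq_sum hM χ (blockIdemBar_mul_self hB)] at hm
  simp only [rk] at hm
  rw [Finset.sum_eq_zero_iff_of_nonneg fun δ' _ =>
    mul_nonneg (Int.natCast_nonneg _) (Int.natCast_nonneg _)] at hm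
  have := hm δ (Finset.mem_univ _)
  rw [hψ1, Matrix.rank_one, Fintype.card_fin] at this
  rcases mul_eq_zero.1 this with h | h
  · exact NeZero.ne (D.d δ) (by exact_mod_cast h)
  · exact hχ (by exact_mod_cast h)

/-- The block of a Brauer character. -/
noncomputable def block (δ : Fin D.n) : Set (IrrCharacter G) := (D.exists_block hM δ).choose

theorem isPBlock_block (δ : Fin D.n) : IsPBlock M (D.block hM δ) :=
  (D.exists_block hM δ).choose_spec.1

theorem mem_block_of_dec {χ : IrrCharacter G} {δ : Fin D.n} (h : D.dec χ δ ≠ 0) :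
    χ ∈ D.block hM δ :=
  (D.exists_block hM δ).choose_spec.2 χ h

theorem dec_eq_zero_of_ne {B : Set (IrrCharacter G)} (hB : IsPBlock M B) {χ : IrrCharacter G}
    (hχ : χ ∈ B) {δ : Fin D.n} (h : D.block hM δ ≠ B) : D.dec χ δ = 0 := by
  by_contra hd
  exact h (IsPBlock.eq_of_mem (D.isPBlock_block hM δ) hB (D.mem_block_of_dec hM hd) hχ)

open scoped Classical in
/-- A combination giving a Brauer character may be cut to its block. -/
theorem combination_block [Fintype (IrrCharacter G)] (δ : Fin D.n) {c : IrrCharacter G → ℂ}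
    (hc : D.phi p δ = ∑ χ, c χ • pRegularPart p (χ : G → ℂ)) :
    D.phi p δ = ∑ χ ∈ Finset.univ.filter (· ∈ D.block hM δ), c χ • pRegularPart p (χ : G → ℂ) := by
  have hexp : ∀ s : Finset (IrrCharacter G), ∑ χ ∈ s, c χ • pRegularPart p (χ : G → ℂ) =
      ∑ δ', (∑ χ ∈ s, c χ * (D.dec χ δ' : ℂ)) • D.phi p δ' := fun s => by
    simp only [D.pRegularPart_eq_sum hM, Finset.smul_sum, smul_smul, Finset.sum_smul]
    exact Finset.sum_comm
  have hli := D.linearIndependent_phi hM
  have h1 : ∑ δ', ((if δ' = δ then 1 else 0) - ∑ χ, c χ * (D.dec χ δ' : ℂ)) • D.phi p δ' = 0 := by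
    simp only [sub_smul, Finset.sum_sub_distrib, ite_smul, one_smul, zero_smul, Finset.sum_ite_eq',
      Finset.mem_univ, if_true]
    rw [sub_eq_zero, ← hexp]
    exact hc
  have h2 := fun δ' => sub_eq_zero.1 (Fintype.linearIndependent_iff.1 hli _ h1 δ')
  rw [hexp, Finset.sum_eq_single δ]
  · rw [show ∑ χ ∈ Finset.univ.filter (· ∈ D.block hM δ), c χ * (D.dec χ δ : ℂ) =
      ∑ χ, c χ * (D.dec χ δ : ℂ) from ?_, ← h2 δ, if_pos rfl, one_smul]
    refine Finset.sum_filter_of_ne fun χ _ hne => D.mem_block_of_dec hM fun h0 => hne ?_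
    rw [h0, Nat.cast_zero, mul_zero]
  · intro δ' _ hne
    convert zero_smul ℂ (D.phi p δ')
    by_cases hb : D.block hM δ' = D.block hM δ
    · rw [show ∑ χ ∈ Finset.univ.filter (· ∈ D.block hM δ), c χ * (D.dec χ δ' : ℂ) =
        ∑ χ, c χ * (D.dec χ δ' : ℂ) from ?_, ← h2 δ', if_neg hne]
      refine Finset.sum_filter_of_ne fun χ _ hne' => hb ▸ D.mem_block_of_dec hM fun h0 => hne' ?_
      rw [h0, Nat.cast_zero, mul_zero]
    · refine Finset.sum_eq_zero fun χ hχ => ?_
      rw [D.dec_eq_zero_of_ne hM (D.isPBlock_block hM δ) (Finset.mem_filter.1 hχ).2 hb, Nat.cast_zero,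
        mul_zero]
  · exact fun h => absurd (Finset.mem_univ _) h

/-- The Brauer characters of a block are as many as its regular rank. -/
theorem card_block_eq {B : Set (IrrCharacter G)} (hB : IsPBlock M B) :
    Nat.card {δ : Fin D.n // D.block hM δ = B} = blockRank p B := by
  classical
  have := Fintype.ofFinite (IrrCharacter G)
  rw [blockRank, Nat.card_eq_fintype_card,
    ← finrank_span_eq_card ((D.linearIndependent_phi hM).comp
      (Subtype.val : {δ : Fin D.n // D.block hM δ = B} → Fin D.n) Subtype.val_injective)]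
  refine congrArg (fun S : Submodule ℂ (G → ℂ) => Module.finrank ℂ S) (le_antisymm ?_ ?_)
  · rw [Submodule.span_le]
    rintro _ ⟨⟨δ, hδ⟩, rfl⟩
    obtain ⟨c, hc⟩ := D.exists_combination hM δ
    show D.phi p δ ∈ Submodule.span ℂ _
    rw [D.combination_block hM δ hc]
    exact sum_mem fun χ hχ => Submodule.smul_mem _ _
      (Submodule.subset_span ⟨χ, hδ ▸ (Finset.mem_filter.1 hχ).2, rfl⟩)
  · rw [Submodule.span_le]
    rintro _ ⟨χ, hχ, rfl⟩
    simp only [SetLike.mem_coe, D.pRegularPart_eq_sum hM χ]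
    refine sum_mem fun δ _ => ?_
    by_cases hd : D.block hM δ = B
    · exact Submodule.smul_mem _ _ (Submodule.subset_span ⟨⟨δ, hd⟩, rfl⟩)
    · simp [D.dec_eq_zero_of_ne hM hB hχ hd]

/-- The degree of a projective indecomposable character is a multiple of the `p`-part. -/
theorem pow_dvd_sum_dec [Fintype (IrrCharacter G)] (δ : Fin D.n) :
    p ^ (Nat.card G).factorization p ∣ ∑ χ, D.dec χ δ * charDegree (χ : G → ℂ) := by
  classical
  obtain ⟨q, hq, -, hqr⟩ := exists_lift_idem (D.hε δ) (invUnder_one (D.ε δ))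
  set n := ∑ χ, D.dec χ δ * charDegree (χ : G → ℂ) with hn
  have hsum : (n : ℂ) = (Nat.card G : ℂ) * (q.coeff 1 : ℂ) := by
    have h1 : ∀ χ : IrrCharacter G, (D.dec χ δ : ℂ) = ∑ w, (q.coeff w : ℂ) * (χ : G → ℂ) w :=
      fun χ => by
        rw [← Int.cast_natCast, dec_cast, mult_cast hM χ (D.hε δ),
          sv_eq hM χ (isPPart_one hM) (D.hε δ) (invUnder_one _) hq (invUnder_one _) (by rw [hqr]),
          tr]
        simp
    rw [hn]
    push_cast
    simp only [h1, ← apply_one_eq_charDegree, Finset.sum_mul, mul_assoc]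
    rw [Finset.sum_comm, Finset.sum_eq_single (1 : G)]
    · rw [← Finset.mul_sum, mul_comm (Nat.card G : ℂ)]
      congr 1
      rw [← Char.sum_sq_degree (G := G)]
      exact Finset.sum_congr rfl fun χ _ => by rw [sq]
    · intro w _ hw
      rw [← Finset.mul_sum, Finset.sum_congr rfl fun χ _ => mul_comm _ _,
        Char.sum_degree_mul_apply_of_ne_one hw, mul_zero]
    · simp
  by_cases hn0 : n = 0
  · rw [hn0]; exact dvd_zero _
  by_contra hdiv
  set b := n.factorization p
  have hb : b < (Nat.card G).factorization p := by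
    by_contra hle
    exact hdiv ((pow_dvd_pow p (not_lt.1 hle)).trans (Nat.ordProj_dvd n p))
  have hndiv := Nat.not_dvd_ordCompl (Fact.out : p.Prime) hn0
  set r := n / p ^ b with hr
  have hnr : n = p ^ b * r := (Nat.ordProj_mul_ordCompl_eq_self n p).symm
  obtain ⟨m, hm⟩ := Nat.ordProj_dvd (Nat.card G) p
  have hp0 : (p : ℂ) ≠ 0 := Nat.cast_ne_zero.2 hM.1.ne_zero
  have hr' : (r : ℂ) = (p : ℂ) ^ ((Nat.card G).factorization p - b) * m * (q.coeff 1 : ℂ) := by
    refine mul_left_cancel₀ (pow_ne_zero b hp0) ?_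
    rw [← Nat.cast_pow, ← Nat.cast_mul, ← hnr, hsum]
    conv_lhs => rw [hm]
    push_cast
    rw [← mul_assoc, ← mul_assoc, ← pow_add, Nat.add_sub_cancel' hb.le]
  have hru := ((isUnit_natCast_iff hM (n := r)).2 hndiv).map (resHom M)
  refine hru.ne_zero ?_
  have : (r : localRing M) = (p : localRing M) ^ ((Nat.card G).factorization p - b) * m * q.coeff 1 :=
    Subtype.ext (by push_cast; exact hr')
  rw [this, map_mul, map_mul, map_pow, residue_natCast_self hM, zero_pow (by omega), zero_mul,
    zero_mul]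

omit [Fintype G] hM [Fact p.Prime] in
/-- Automorphisms of the group permute the Brauer characters. -/
theorem exists_perm_phi [Finite G] (τ : G ≃* G) :
    ∃ π : Equiv.Perm (Fin D.n), ∀ δ x, (IsPModular p M) → D.phi p δ (τ x) = D.phi p (π δ) x := by
  obtain ⟨π, hπ⟩ := exists_perm_rank D.surj D.nil
    (MonoidAlgebra.domCongr (Res M) (Res M) τ)
  refine ⟨π, fun δ x hM => ?_⟩
  have ho : orderOf (τ x) = orderOf x := MulEquiv.orderOf_eq τ x
  by_cases hx : p ∣ orderOf x
  · rw [D.phi_singular _ hx, D.phi_singular _ (ho ▸ hx)]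
  rw [phi, phi, brVal_of_regular hx, brVal_of_regular (ho ▸ hx), ho]
  refine Finset.sum_congr rfl fun j _ => ?_
  congr 2
  have h : eigIdem M (τ x) j = MonoidAlgebra.domCongr (Res M) (Res M) τ (eigIdem M x j) := by
    simp only [eigIdem, eigO, ho, Algebra.smul_def, map_mul, map_sum, single_pow, red_single]
    refine congrArg₂ (· * ·) ?_ (Finset.sum_congr rfl fun t _ => ?_)
    · simp [red]
    · simp [map_pow]
  rw [h, rk, rk, hπ _ (eigIdem_sq hM hx j)]

end Data

end CfsgLib.IBr
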