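import Cfsg.Agent.Lib.Blocks.Brauer.Corner
import Cfsg.Agent.S4675

/-!
# A block with one Brauer character and at most four characters has as many characters as the
order of its defect group
-/

set_option autoImplicit false

namespace CfsgLib.IBr

open Cfsg

theorem card_defect_eq_card {G : Type*} [Group G] [Fintype G] {p : ℕ} [Fact p.Prime]
    {M : Ideal Cfsg.AlgInt} (hM : Cfsg.IsPModular p M) {B : Set (Cfsg.IrrCharacter G)}
    (hB : Cfsg.IsPBlock M B) {D : Subgroup G} (hD : Cfsg.IsDefectGroup p M B D)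
    (hr : Cfsg.blockRank p B = 1) (hk : Nat.card B ≤ 4 ∨ IsCyclic D) : Nat.card D = Nat.card B := by
  classical
  have := hM.2.1.isPrime
  have := Fintype.ofFinite (Cfsg.IrrCharacter G)
  have hp := (Fact.out : p.Prime)
  obtain ⟨Dt⟩ := CfsgLib.IBr.nonempty_data (G := G) (M := M)
  obtain ⟨φ, dd, ⟨n, hn⟩, hdd, hsum⟩ := Cfsg.Agent.S4675.result p M hM B hB D hD hr
  have huni := Dt.card_block_eq hM hB
  rw [hr, Nat.card_eq_one_iff_unique] at huni
  obtain ⟨hsub, ⟨⟨δ, hδ⟩⟩⟩ := huni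
  have huniq : ∀ δ', Dt.block hM δ' = B → δ' = δ := fun δ' h =>
    congrArg Subtype.val (@Subsingleton.elim _ hsub ⟨δ', h⟩ ⟨δ, hδ⟩)
  have hreg : ∀ χ ∈ B, ∀ x : G, ¬ p ∣ orderOf x →
      (χ : G → ℂ) x = (Dt.dec χ δ : ℂ) * Dt.phi p δ x := by
    intro χ hχ x hx
    have h := congrFun (Dt.pRegularPart_eq_sum hM χ) x
    rw [Finset.sum_eq_single δ (fun b _ hb => by
      rw [Dt.dec_eq_zero_of_ne hM hB hχ (fun h => hb (huniq b h)), Nat.cast_zero, zero_smul])
      (fun h => absurd (Finset.mem_univ _) h)] at h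
    simpa [Cfsg.pRegularPart, Cfsg.IsPRegular, hx] using h
  obtain ⟨c, hc, hphi⟩ := CfsgLib.IBr.exists_int_combination hM Dt δ
  set S := (Set.toFinite B).toFinset
  set a : ℤ := ∑ χ ∈ S, n χ * (Dt.dec χ δ : ℤ) with ha
  set b : ℤ := ∑ χ ∈ S, c χ * (dd χ : ℤ) with hb
  have hφ : ∀ x : G, ¬ p ∣ orderOf x → φ x = (a : ℂ) * Dt.phi p δ x := by
    intro x hx
    rw [hn x hx, finsum_mem_eq_finite_toFinset_sum _ (Set.toFinite B), ha]
    push_cast
    rw [Finset.sum_mul]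
    refine Finset.sum_congr rfl fun χ hχ => ?_
    rw [hreg χ ((Set.Finite.mem_toFinset _).1 hχ) x hx]
    ring
  have hδφ : ∀ x : G, ¬ p ∣ orderOf x → Dt.phi p δ x = (b : ℂ) * φ x := by
    intro x hx
    conv_lhs => rw [hphi]
    rw [Finset.sum_apply, hb]
    push_cast
    rw [Finset.sum_mul]
    symm
    refine (Finset.sum_congr rfl fun χ hχ => ?_).trans (Finset.sum_subset (Finset.subset_univ _)
      fun χ _ hχ => ?_)
    · simp [Cfsg.pRegularPart, Cfsg.IsPRegular, hx, hdd χ ((Set.Finite.mem_toFinset _).1 hχ) x hx,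
        mul_assoc]
    · have : c χ = 0 := by
        by_contra h
        exact hχ ((Set.Finite.mem_toFinset _).2 (hδ ▸ hc χ h))
      simp [this]
  have h1 : ¬ p ∣ orderOf (1 : G) := by simp [hp.ne_one]
  have hab : b * a = 1 := by
    have h := hδφ 1 h1
    rw [hφ 1 h1, ← mul_assoc, Dt.phi_one hM] at h
    have h' : ((b * a : ℤ) : ℂ) * (Dt.d δ : ℂ) = ((1 : ℤ) : ℂ) * (Dt.d δ : ℂ) := by
      push_cast
      rw [one_mul]
      exact h.symm
    exact Int.cast_injective (mul_right_cancel₀ (Nat.cast_ne_zero.2 (NeZero.ne (Dt.d δ))) h')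
  have hsq : ∀ χ ∈ S, dd χ ^ 2 = Dt.dec χ δ ^ 2 := by
    intro χ hχ
    have hχB := (Set.Finite.mem_toFinset _).1 hχ
    have h := hreg χ hχB 1 h1
    rw [hdd χ hχB 1 h1, hφ 1 h1, ← mul_assoc] at h
    have h' : ((dd χ * a : ℤ) : ℂ) = ((Dt.dec χ δ : ℤ) : ℂ) := by
      push_cast
      refine mul_right_cancel₀ ?_ h
      rw [Dt.phi_one hM]
      exact Nat.cast_ne_zero.2 (NeZero.ne (Dt.d δ))
    have h'' : (dd χ : ℤ) * a = Dt.dec χ δ := Int.cast_injective h'
    have ha1 : a * a = 1 := by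
      rcases Int.eq_one_or_neg_one_of_mul_eq_one (mul_comm b a ▸ hab) with e | e <;> rw [e] <;> norm_num
    have : (dd χ : ℤ) ^ 2 = (Dt.dec χ δ : ℤ) ^ 2 := by
      rw [← h'', mul_pow, sq a, ha1, mul_one]
    exact_mod_cast this
  have hle := CfsgLib.IBr.sum_sq_dec_le_card hM Dt hB (hk.imp id fun h => ⟨D, hD, h⟩) le_rfl hδ huniq
  rw [finsum_mem_eq_finite_toFinset_sum _ (Set.toFinite B)] at hsum
  refine le_antisymm ?_ ?_
  · rw [← hsum, Finset.sum_congr rfl hsq]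
    exact (Finset.sum_le_sum_of_subset (Finset.subset_univ _)).trans hle
  · rw [← hsum, Nat.card_coe_set_eq, Set.ncard_eq_toFinset_card B (Set.toFinite B),
      Finset.card_eq_sum_ones]
    refine Finset.sum_le_sum fun χ hχ => Nat.one_le_iff_ne_zero.2 (pow_ne_zero 2 fun h0 => ?_)
    have h := hdd χ ((Set.Finite.mem_toFinset _).1 hχ) 1 h1
    rw [h0, Nat.cast_zero, zero_mul] at h
    exact CfsgLib.Char.IsIrr.apply_one_ne_zero χ.2 h

end CfsgLib.IBr
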