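import Cfsg.Agent.Lib.Blocks.Brauer.Integral
import Cfsg.Agent.Lib.Blocks.HeightZero
import Cfsg.Agent.Lib.Blocks.DefectNumber

/-!
# The dimension of a block

The sum of the squares of the degrees in a block is the sum over its Brauer characters of the
products of their degrees with the projective degrees; its `p`-part is `p ^ (a + e)` for `p ^ a`
the `p`-part of the group order and `p ^ e` the least `p`-part of a degree.
-/

set_option autoImplicit false

namespace CfsgLib.IBr

open Cfsg MonoidAlgebra CfsgLib.Blocks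

variable {G : Type*} [Group G] [Fintype G] {p : ℕ} [Fact p.Prime] {M : Ideal AlgInt} [M.IsPrime]
  (hM : IsPModular p M) {B : Set (IrrCharacter G)} (hB : IsPBlock M B)
include hM hB

omit [Fact p.Prime] hM in
theorem minExp_le_card : minExp p B ≤ (Nat.card G).factorization p := by
  obtain ⟨χ, hχ⟩ := IsPBlock.nonempty hB
  obtain ⟨q, hq⟩ := charDegree_dvd_card χ
  refine (minExp_le hχ).trans ?_
  rw [hq, Nat.factorization_mul (charDegree_pos χ).ne'
    (fun h => (Nat.card_pos (α := G)).ne' (by rw [hq, h, mul_zero]))]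
  simp

/-- The exact `p`-part of the dimension of a block. -/
theorem exists_sum_sq_eq [Fintype (IrrCharacter G)] [DecidablePred (· ∈ B)] :
    ∃ v : ℕ, ¬ p ∣ v ∧ ∑ χ ∈ Finset.univ.filter (· ∈ B), charDegree (χ : G → ℂ) ^ 2 =
      p ^ ((Nat.card G).factorization p + minExp p B) * v := by
  classical
  obtain ⟨ξ, hξ, h0⟩ := exists_height_zero (p := p) (IsPBlock.nonempty hB)
  obtain ⟨c, hc⟩ := exists_blockEval_residue hM hB hξ
  -- the constant is not zero
  have hc0 : c ≠ 0 := by
    intro hc0
    obtain ⟨z, hz, hres⟩ := hc _ (isCentralElt_regElt (p := p) (Char.IsIrr.isClassFunction ξ.2)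
      (Char.IsChar.isIntegral (Char.IsIrr.isCharacter ξ.2))) fun x hx =>
        Subtype.ext (by rw [coeff_regElt, if_pos hx]; rfl)
    have hev : blockEval B (fun x => ((regElt (p := p) (M := M) (ξ : G → ℂ)
        (Char.IsChar.isIntegral (Char.IsIrr.isCharacter ξ.2))).coeff x⁻¹ : ℂ)) = (ξ : G → ℂ) 1 := by
      refine Eq.trans ?_ (finsum_classInner_irr hξ)
      trans ∑ x, (ξ : G → ℂ) x * blockCoeff B x
      · refine Finset.sum_congr rfl fun x _ => ?_
        simp only [coeff_regElt, inv_inv, orderOf_inv]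
        split_ifs with hx
        · rw [blockCoeff, finsum_mem_eq_finite_toFinset_sum _ (Set.toFinite B)]
          rw [Finset.sum_congr rfl fun χ _ => by rw [← Char.IsIrr.map_inv χ.2],
            ← finsum_mem_eq_finite_toFinset_sum
              (fun χ : IrrCharacter G => (χ : G → ℂ) 1 * (χ : G → ℂ) x⁻¹) (Set.toFinite B),
            sum_block_regular_singular hM hB (by simp [hM.1.ne_one]) (by rwa [orderOf_inv])]
          simp
        · rfl
      · simp only [blockCoeff, finsum_mem_eq_finite_toFinset_sum _ (Set.toFinite B), Finset.mul_sum]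
        rw [Finset.sum_comm]
        refine Finset.sum_congr rfl fun η _ => ?_
        rw [classInner, Finset.mul_sum, Finset.sum_mul]
        exact Finset.sum_congr rfl fun x _ => by ring
    exact residue_ne_zero_of_height_zero hM hξ h0 (hz.trans hev) (by rw [hres, hc0, zero_mul])
  obtain ⟨z, hz, hres⟩ := hc 1 IsCentralElt.one fun x hx => by
    have hx1 : x ≠ 1 := by rintro rfl; simp [hM.1.ne_one] at hx
    simp [MonoidAlgebra.one_def, MonoidAlgebra.coeff_single, Finsupp.single_eq_of_ne hx1]
  rw [map_one, omegaBar_one, mul_one] at hres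
  set S := ∑ χ ∈ Finset.univ.filter (· ∈ B), charDegree (χ : G → ℂ) ^ 2 with hS
  set e := minExp p B
  set a := (Nat.card G).factorization p with ha
  obtain ⟨r, hr⟩ := Nat.ordProj_dvd (Nat.card G) p
  have hp0 : (p : ℂ) ≠ 0 := Nat.cast_ne_zero.2 hM.1.ne_zero
  have hrp : ¬ p ∣ r := by
    have h := Nat.not_dvd_ordCompl (Fact.out : p.Prime) (Nat.card_pos (α := G)).ne'
    rwa [show Nat.card G / p ^ a = r from
      Nat.div_eq_of_eq_mul_right (pow_pos hM.1.pos _) hr] at h
  have hSz : (S : ℂ) = (p : ℂ) ^ (a + e) * ((r : ℂ) * (z : ℂ)) := by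
    have h1 : blockEval B (fun x => ((1 : MonoidAlgebra (localRing M) G).coeff x⁻¹ : ℂ)) =
        blockCoeff B 1 := by
      rw [blockEval, Finset.sum_eq_single 1]
      · simp [MonoidAlgebra.one_def, MonoidAlgebra.coeff_single]
      · intro b _ hb
        simp [MonoidAlgebra.one_def, MonoidAlgebra.coeff_single,
          Finsupp.single_eq_of_ne (inv_ne_one.2 hb)]
      · simp
    rw [h1, blockCoeff, finsum_mem_eq_sum_of_inter_support_eq
      (t := Finset.univ.filter (· ∈ B))] at hz
    swap
    · ext χ; simp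
    simp only [apply_one_eq_charDegree, map_natCast, ← sq] at hz
    have hG0 : (Nat.card G : ℂ) ≠ 0 := Nat.cast_ne_zero.2 Nat.card_pos.ne'
    rw [hS]
    push_cast
    rw [show ∑ χ ∈ Finset.univ.filter (· ∈ B), (charDegree (χ : G → ℂ) : ℂ) ^ 2 =
      (Nat.card G : ℂ) * ((z : ℂ) * (p : ℂ) ^ e) by rw [hz, ← mul_assoc, mul_inv_cancel₀ hG0, one_mul],
      hr]
    push_cast
    ring
  have hz0 : resHom M ((r : localRing M) * z) ≠ 0 := by
    rw [map_mul, hres]
    exact mul_ne_zero (((isUnit_natCast_iff hM).2 hrp).map (resHom M)).ne_zero hc0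
  have hS0 : S ≠ 0 := by
    intro h
    rw [h, Nat.cast_zero, eq_comm, mul_eq_zero] at hSz
    rcases hSz with h' | h'
    · exact pow_ne_zero _ hp0 h'
    · exact hz0 (by rw [show (r : localRing M) * z = 0 from Subtype.ext (by push_cast; exact h'),
        map_zero])
  obtain ⟨w, hw⟩ := Nat.ordProj_dvd S p
  have hwp : ¬ p ∣ w := by
    have h := Nat.not_dvd_ordCompl (Fact.out : p.Prime) hS0
    rwa [show S / p ^ S.factorization p = w from
      Nat.div_eq_of_eq_mul_right (pow_pos hM.1.pos _) hw] at h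
  set f := S.factorization p
  refine ⟨w, hwp, ?_⟩
  rcases lt_trichotomy f (a + e) with hlt | heq | hgt
  · exfalso
    refine (((isUnit_natCast_iff hM).2 hwp).map (resHom M)).ne_zero ?_
    have : (w : localRing M) = (p : localRing M) ^ (a + e - f) * ((r : localRing M) * z) := by
      refine Subtype.ext (mul_left_cancel₀ (pow_ne_zero f hp0) ?_)
      push_cast
      rw [← Nat.cast_pow, ← Nat.cast_mul, ← hw, hSz, Nat.cast_pow, ← mul_assoc ((p : ℂ) ^ f),
        ← pow_add, Nat.add_sub_cancel' hlt.le]
    rw [this, map_mul, map_pow, residue_natCast_self hM, zero_pow (by omega), zero_mul]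
  · rw [← heq]; exact hw
  · exfalso
    refine hz0 ?_
    have : (r : localRing M) * z = (p : localRing M) ^ (f - (a + e)) * (w : localRing M) := by
      refine Subtype.ext (mul_left_cancel₀ (pow_ne_zero (a + e) hp0) ?_)
      push_cast
      rw [← mul_assoc ((p : ℂ) ^ (a + e)) ((p : ℂ) ^ _), ← pow_add, Nat.add_sub_cancel' hgt.le,
        ← hSz, hw]
      push_cast
      rfl
    rw [this, map_mul, map_pow, residue_natCast_self hM, zero_pow (by omega), zero_mul]

/-- The dimension of a block through its Brauer characters. -/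
theorem sum_sq_eq_sum_phi [Fintype (IrrCharacter G)] [DecidablePred (· ∈ B)] (D : Data G M)
    [DecidablePred fun δ => D.block hM δ = B] :
    ∑ χ ∈ Finset.univ.filter (· ∈ B), charDegree (χ : G → ℂ) ^ 2 =
      ∑ δ ∈ Finset.univ.filter (fun δ => D.block hM δ = B),
        D.d δ * ∑ χ, D.dec χ δ * charDegree (χ : G → ℂ) := by
  have hdeg : ∀ χ : IrrCharacter G, charDegree (χ : G → ℂ) = ∑ δ, D.dec χ δ * D.d δ := fun χ => by
    have h := congrFun (D.pRegularPart_eq_sum hM χ) 1
    simp only [pRegularPart, IsPRegular, orderOf_one, Nat.dvd_one, hM.1.ne_one, not_false_eq_true,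
      if_true, Finset.sum_apply, Pi.smul_apply, smul_eq_mul, D.phi_one hM,
      apply_one_eq_charDegree] at h
    exact_mod_cast h
  calc ∑ χ ∈ Finset.univ.filter (· ∈ B), charDegree (χ : G → ℂ) ^ 2
      = ∑ χ ∈ Finset.univ.filter (· ∈ B), ∑ δ, D.d δ * (D.dec χ δ * charDegree (χ : G → ℂ)) := by
        refine Finset.sum_congr rfl fun χ _ => ?_
        conv_lhs => rw [sq]; arg 1; rw [hdeg χ]
        rw [Finset.sum_mul]
        exact Finset.sum_congr rfl fun δ _ => by ring
    _ = _ := by
        rw [Finset.sum_comm, Finset.sum_filter]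
        refine Finset.sum_congr rfl fun δ _ => ?_
        split_ifs with hd
        · rw [Finset.mul_sum]
          refine Finset.sum_subset (Finset.filter_subset _ _) fun χ _ hχ => ?_
          have : D.dec χ δ = 0 := by
            by_contra h
            exact hχ (Finset.mem_filter.2 ⟨Finset.mem_univ _, hd ▸ D.mem_block_of_dec hM h⟩)
          simp [this]
        · refine Finset.sum_eq_zero fun χ hχ => ?_
          simp [D.dec_eq_zero_of_ne hM hB (Finset.mem_filter.1 hχ).2 hd]

omit hB in
theorem dvd_degree_of_forall (D : Data G M) {δ : Fin D.n} (hδ : D.block hM δ = B) {g : ℕ}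
    (hg : ∀ χ ∈ B, g ∣ charDegree (χ : G → ℂ)) :
    g ∣ D.d δ := by
  have := Fintype.ofFinite (IrrCharacter G)
  obtain ⟨c, hc, hphi⟩ := exists_int_combination hM D δ
  have h := congrFun hphi 1
  simp only [pRegularPart, IsPRegular, orderOf_one, Nat.dvd_one, hM.1.ne_one, not_false_eq_true,
    if_true, Finset.sum_apply, Pi.smul_apply, smul_eq_mul, D.phi_one hM,
    apply_one_eq_charDegree] at h
  have h' : (D.d δ : ℤ) = ∑ χ, c χ * (charDegree (χ : G → ℂ) : ℤ) := by exact_mod_cast h
  rw [← Int.natCast_dvd_natCast, h']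
  refine Finset.dvd_sum fun χ _ => ?_
  by_cases hc0 : c χ = 0
  · simp [hc0]
  · exact Dvd.dvd.mul_left (Int.natCast_dvd_natCast.2 (hg χ (hδ ▸ hc χ hc0))) _

end CfsgLib.IBr
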