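import Cfsg.Agent.Lib.Blocks.Star.Lift
import Cfsg.Agent.Lib.Blocks.Star.Global
import Cfsg.Prelude.Def_BlockRank

/-!
# Values of additive functions on idempotents at regular elements

For a regular element `x` the idempotents `eigIdem x j` are its eigen-idempotents in the group
algebra over the residue field.  An integer function `N` on idempotents gives the class function
`brVal N x = ∑ j, ω ^ j * N (eigIdem x j)`; for the trace function `mult χ` of an irreducible
character this is the restriction of the character to the regular elements.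
-/

set_option autoImplicit false

universe u

namespace CfsgLib.IBr

open Cfsg MonoidAlgebra CfsgLib.Blocks CfsgLib.Pairs CfsgLib.Star

section Generic

theorem geom_eq_zero {R : Type*} [CommRing R] [IsDomain R] {c : R} {o : ℕ} (hc : c ^ o = 1)
    (h1 : c ≠ 1) : ∑ j ∈ Finset.range o, c ^ j = 0 := by
  have h := geom_sum_mul c o
  rw [hc, sub_self] at h
  exact (mul_eq_zero.1 h).resolve_right (sub_ne_zero.2 h1)

/-- Fourier inversion over the roots of unity. -/
theorem inversion {R S : Type*} [CommRing R] [IsDomain R] [CommRing S] (f : R →+* S) {ω : R}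
    {o : ℕ} (ho : o ≠ 0) (hω : IsPrimitiveRoot ω o) (X : ℕ → S) :
    ∑ j ∈ Finset.range o, f (ω ^ j) * ∑ t ∈ Finset.range o, f (((ω ^ (o - 1)) ^ j) ^ t) * X t =
      (o : S) * X (1 % o) := by
  have hswap : ∑ j ∈ Finset.range o, f (ω ^ j) *
      ∑ t ∈ Finset.range o, f (((ω ^ (o - 1)) ^ j) ^ t) * X t =
      ∑ t ∈ Finset.range o, f (∑ j ∈ Finset.range o, (ω * (ω ^ (o - 1)) ^ t) ^ j) * X t := by
    simp only [Finset.mul_sum, map_sum, Finset.sum_mul]
    rw [Finset.sum_comm]
    refine Finset.sum_congr rfl fun t _ => Finset.sum_congr rfl fun j _ => ?_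
    rw [← mul_assoc, ← map_mul]
    congr 2
    rw [mul_pow, ← pow_mul, ← pow_mul, mul_comm j t]
    ring
  have hcone : ∀ t, ω * (ω ^ (o - 1)) ^ t * ω ^ t = ω := fun t => by
    rw [mul_assoc, ← mul_pow, ← pow_succ, Nat.sub_add_cancel (Nat.one_le_iff_ne_zero.2 ho),
      hω.pow_eq_one, one_pow, mul_one]
  have hω1 : ω ^ (1 % o) = ω := by
    conv_rhs => rw [← pow_one ω, ← Nat.mod_add_div 1 o, pow_add, pow_mul, hω.pow_eq_one,
      one_pow, mul_one]
  rw [hswap, Finset.sum_eq_single (1 % o)]
  · have h1 : ω * (ω ^ (o - 1)) ^ (1 % o) = 1 := by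
      have h := hcone (1 % o)
      rw [hω1] at h
      exact mul_right_cancel₀ (hω.ne_zero ho) (h.trans (one_mul ω).symm)
    simp [h1]
  · intro t ht hne
    rw [geom_eq_zero, map_zero, zero_mul]
    · rw [mul_pow, hω.pow_eq_one, one_mul, ← pow_mul, ← pow_mul,
        show (o - 1) * (t * o) = o * ((o - 1) * t) by ring, pow_mul, hω.pow_eq_one, one_pow]
    · intro h1
      have h := hcone t
      rw [h1, one_mul] at h
      refine hne (hω.pow_inj (Finset.mem_range.1 ht) (Nat.mod_lt 1 (Nat.pos_of_ne_zero ho)) ?_)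
      rw [h, hω1]
  · exact fun h => absurd (Finset.mem_range.2 (Nat.mod_lt 1 (Nat.pos_of_ne_zero ho))) h

/-- The averaged powers of an element of finite order form an idempotent. -/
theorem idem_of_pow_eq_one {R A : Type*} [CommRing R] [Ring A] [Algebra R A] {y : A} {o : ℕ}
    (hy : y ^ o = 1) {r : R} (hr : r * (o : R) = 1) :
    (r • ∑ t ∈ Finset.range o, y ^ t) * (r • ∑ t ∈ Finset.range o, y ^ t) =
      r • ∑ t ∈ Finset.range o, y ^ t := by
  set S := ∑ t ∈ Finset.range o, y ^ t
  have h1 : y * S = S := by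
    have h := mul_geom_sum y o
    rw [hy, sub_self, sub_mul, one_mul, sub_eq_zero] at h
    exact h
  have h2 : ∀ t, y ^ t * S = S := fun t => by
    induction t with
    | zero => simp
    | succ t ih => rw [pow_succ, mul_assoc, h1, ih]
  have h3 : S * S = (o : R) • S := by
    conv_lhs => rw [show S * S = (∑ t ∈ Finset.range o, y ^ t) * S from rfl, Finset.sum_mul,
      Finset.sum_congr rfl fun t _ => h2 t, Finset.sum_const, Finset.card_range]
    rw [Nat.cast_smul_eq_nsmul]
  rw [smul_mul_smul_comm, h3, smul_smul, mul_assoc, hr, mul_one]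

end Generic

section Roots

variable (M : Ideal AlgInt) [M.IsPrime]

/-- A primitive root of unity in the local ring. -/
noncomputable def rootO (o : ℕ) : localRing M :=
  if h : o = 0 then 1 else ⟨Complex.exp (2 * Real.pi * Complex.I / o),
    mem_localRing_of_pow_eq_one h (Complex.isPrimitiveRoot_exp o h).pow_eq_one⟩

open scoped Classical in
/-- The inverse of a natural number in the local ring, or zero. -/
noncomputable def invO (o : ℕ) : localRing M :=
  if h : ((o : ℂ)⁻¹) ∈ localRing M then ⟨_, h⟩ else 0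

theorem isPrimitiveRoot_rootO {o : ℕ} (ho : o ≠ 0) : IsPrimitiveRoot (rootO M o) o := by
  refine IsPrimitiveRoot.of_map_of_injective (f := (localRing M).subtype) ?_ Subtype.val_injective
  rw [rootO, dif_neg ho]
  exact Complex.isPrimitiveRoot_exp o ho

variable {M}

theorem invO_mul_natCast {p : ℕ} (hM : IsPModular p M) {o : ℕ} (ho : ¬ p ∣ o) :
    invO M o * (o : localRing M) = 1 := by
  have h0 : (o : ℂ) ≠ 0 := by
    simp only [ne_eq, Nat.cast_eq_zero]
    rintro rfl
    exact ho (dvd_zero p)
  rw [invO, dif_pos (inv_natCast_mem hM ho)]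
  exact Subtype.ext (by simp [h0])

end Roots

variable {G : Type u} [Group G] {p : ℕ} {M : Ideal AlgInt} [M.IsPrime]

/-- The eigen-idempotents of an element, over the local ring. -/
noncomputable def eigO (M : Ideal AlgInt) [M.IsPrime] (x : G) (j : ℕ) :
    MonoidAlgebra (localRing M) G :=
  invO M (orderOf x) • ∑ t ∈ Finset.range (orderOf x),
    single x ((rootO M (orderOf x) ^ (orderOf x - 1)) ^ j) ^ t

/-- The eigen-idempotents of an element, over the residue field. -/
noncomputable def eigIdem (M : Ideal AlgInt) [M.IsPrime] (x : G) (j : ℕ) :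
    MonoidAlgebra (Res M) G :=
  red M (eigO M x j)

/-- The class function on regular elements attached to a function on idempotents. -/
noncomputable def brVal (p : ℕ) (M : Ideal AlgInt) [M.IsPrime]
    (N : MonoidAlgebra (Res M) G → ℤ) (x : G) : ℂ := by
  classical exact if IsPRegular p x then
    ∑ j ∈ Finset.range (orderOf x), (rootO M (orderOf x) : ℂ) ^ j * (N (eigIdem M x j) : ℂ)
  else 0

theorem brVal_of_regular {N : MonoidAlgebra (Res M) G → ℤ} {x : G} (hx : ¬ p ∣ orderOf x) :
    brVal p M N x =
      ∑ j ∈ Finset.range (orderOf x), (rootO M (orderOf x) : ℂ) ^ j * (N (eigIdem M x j) : ℂ) := by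
  classical
  exact if_pos hx

theorem brVal_of_singular {N : MonoidAlgebra (Res M) G → ℤ} {x : G} (hx : p ∣ orderOf x) :
    brVal p M N x = 0 := by
  classical
  exact if_neg (not_not_intro hx)

theorem brVal_congr {N N' : MonoidAlgebra (Res M) G → ℤ} {x : G}
    (h : ∀ j, N (eigIdem M x j) = N' (eigIdem M x j)) : brVal p M N x = brVal p M N' x := by
  by_cases hx : p ∣ orderOf x
  · rw [brVal_of_singular hx, brVal_of_singular hx]
  · rw [brVal_of_regular hx, brVal_of_regular hx]
    exact Finset.sum_congr rfl fun j _ => by rw [h j]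

theorem invUnder_one {R : Type*} [Semiring R] (a : MonoidAlgebra R G) :
    InvUnder (Subgroup.zpowers (1 : G)) a := by
  intro v hv x
  obtain ⟨n, rfl⟩ := hv
  simp

theorem single_pow_eig (x : G) (c : localRing M) (hc : c ^ orderOf x = 1) :
    single x c ^ orderOf x = (1 : MonoidAlgebra (localRing M) G) := by
  rw [single_pow, pow_orderOf_eq_one, hc, MonoidAlgebra.one_def]

theorem eigO_sq (hM : IsPModular p M) [Finite G] {x : G} (hx : ¬ p ∣ orderOf x) (j : ℕ) :
    eigO M x j * eigO M x j = eigO M x j := by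
  refine idem_of_pow_eq_one (single_pow_eig x _ ?_) (invO_mul_natCast hM hx)
  rw [← pow_mul, ← pow_mul, mul_comm _ (orderOf x), mul_comm (orderOf x - 1), mul_assoc, pow_mul,
    (isPrimitiveRoot_rootO M (orderOf_pos x).ne').pow_eq_one, one_pow]

theorem eigIdem_sq (hM : IsPModular p M) [Finite G] {x : G} (hx : ¬ p ∣ orderOf x) (j : ℕ) :
    eigIdem M x j * eigIdem M x j = eigIdem M x j := by
  rw [eigIdem, ← map_mul, eigO_sq hM hx]

theorem red_single (x : G) (c : localRing M) :
    red M (single x c) = single x (resHom M c) := by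
  simp [red]

theorem eigIdem_conj (h x : G) (j : ℕ) :
    eigIdem M (h * x * h⁻¹) j = single h 1 * eigIdem M x j * single h⁻¹ 1 := by
  have ho : orderOf (h * x * h⁻¹) = orderOf x := MulEquiv.orderOf_eq (MulAut.conj h) x
  simp only [eigIdem, eigO, ho]
  simp only [Algebra.smul_def, map_mul, map_sum, Finset.mul_sum, Finset.sum_mul]
  refine Finset.sum_congr rfl fun t _ => ?_
  simp only [single_pow, red_single, coe_algebraMap, Function.comp_apply, Algebra.algebraMap_self,
    RingHom.id_apply, single_mul_single, one_mul, mul_one]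
  congr 1
  rw [conj_pow]

variable [Fintype G] [Fact p.Prime]

theorem tr_smul (χ : G → ℂ) (g : G) (r : localRing M) (a : MonoidAlgebra (localRing M) G) :
    tr χ g (r • a) = (r : ℂ) * tr χ g a := by
  simp [tr, Finset.mul_sum, mul_assoc]

theorem tr_sum {ι : Type*} (χ : G → ℂ) (g : G) (s : Finset ι)
    (a : ι → MonoidAlgebra (localRing M) G) : tr χ g (∑ i ∈ s, a i) = ∑ i ∈ s, tr χ g (a i) := by
  classical
  induction s using Finset.induction with
  | empty => simp [tr_zero]
  | insert i s hi ih => rw [Finset.sum_insert hi, Finset.sum_insert hi, tr_add, ih]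

theorem tr_single (χ : G → ℂ) (g w : G) (c : localRing M) :
    tr χ g (single w c) = (c : ℂ) * χ (w * g) := by
  classical
  rw [tr, Finset.sum_eq_single w]
  · simp [MonoidAlgebra.coeff_single]
  · intro b _ hb
    simp [MonoidAlgebra.coeff_single, hb]
  · exact fun h => absurd (Finset.mem_univ _) h

open scoped Classical in
/-- The multiplicity function of a character on idempotents over the residue field. -/
noncomputable def mult (χ : G → ℂ) (f : MonoidAlgebra (Res M) G) : ℤ :=
  if h : ∃ n : ℕ, sv χ (1 : G) f = n then (h.choose : ℤ) else 0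

variable (hM : IsPModular p M)
include hM

theorem isPPart_one : IsPPart p (1 : G) 1 :=
  isPPart_one_of_isPRegular (by simpa using hM.1.ne_one)

theorem exists_nat_sv (χ : IrrCharacter G) {f : MonoidAlgebra (Res M) G} (hf : f * f = f) :
    ∃ n : ℕ, sv (χ : G → ℂ) (1 : G) f = n := by
  obtain ⟨q, hq, hqi, hqr⟩ := exists_lift_idem hf (invUnder_one f)
  rw [sv_eq hM χ (isPPart_one hM) hf (invUnder_one f) hq hqi (by rw [hqr])]
  obtain ⟨m, ρ, hρ⟩ := Char.IsIrr.isCharacter χ.2
  set P := ρ.asAlgebraHom (inc M q) with hP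
  have hPP : P * P = P := by rw [hP, ← map_mul, ← map_mul, hq]
  have htr : tr (χ : G → ℂ) 1 q = LinearMap.trace ℂ _ P := by
    rw [hP, asAlgebraHom_eq_sum, map_sum, tr]
    refine Finset.sum_congr rfl fun w _ => ?_
    rw [map_smul, mul_one, ← hρ, coeff_inc]
    rfl
  have hproj : LinearMap.IsProj (LinearMap.range P) P := by
    refine ⟨fun v => ⟨v, rfl⟩, ?_⟩
    rintro _ ⟨v, rfl⟩
    rw [← Module.End.mul_apply, hPP]
  exact ⟨_, htr.trans hproj.trace⟩

theorem mult_cast (χ : IrrCharacter G) {f : MonoidAlgebra (Res M) G} (hf : f * f = f) :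
    (mult (χ : G → ℂ) f : ℂ) = sv (χ : G → ℂ) (1 : G) f := by
  have h := exists_nat_sv hM χ hf
  rw [mult, dif_pos h, Int.cast_natCast]
  exact h.choose_spec.symm

omit hM in
theorem mult_nonneg (χ : G → ℂ) (f : MonoidAlgebra (Res M) G) : 0 ≤ mult χ f := by
  unfold mult
  split_ifs <;> simp

theorem mult_add (χ : IrrCharacter G) (e f : MonoidAlgebra (Res M) G) (he : e * e = e)
    (hf : f * f = f) (h1 : e * f = 0) (h2 : f * e = 0) :
    mult (χ : G → ℂ) (e + f) = mult (χ : G → ℂ) e + mult (χ : G → ℂ) f := by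
  refine Int.cast_injective (α := ℂ) ?_
  push_cast
  rw [mult_cast hM χ (by simp only [add_mul, mul_add, he, hf, h1, h2, add_zero, zero_add]),
    mult_cast hM χ he, mult_cast hM χ hf]
  exact sv_add hM χ (isPPart_one hM) he (invUnder_one e) hf (invUnder_one f) h1 h2

theorem mult_equiv (χ : IrrCharacter G) (a c : MonoidAlgebra (Res M) G)
    (h1 : a * c * (a * c) = a * c) (h2 : c * a * (c * a) = c * a) :
    mult (χ : G → ℂ) (a * c) = mult (χ : G → ℂ) (c * a) := by
  refine Int.cast_injective (α := ℂ) ?_
  rw [mult_cast hM χ h1, mult_cast hM χ h2]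
  exact sv_equiv hM χ (isPPart_one hM) h1 (invUnder_one _) h2 (invUnder_one _) (invUnder_one a)
    (invUnder_one c) rfl rfl

/-- The values of the multiplicity function recover the character on regular elements. -/
theorem brVal_mult (χ : IrrCharacter G) :
    brVal p M (mult (M := M) (χ : G → ℂ)) = pRegularPart p (χ : G → ℂ) := by
  classical
  funext x
  by_cases hx : p ∣ orderOf x
  · simp [brVal_of_singular hx, pRegularPart, IsPRegular, hx]
  simp only [brVal_of_regular hx, pRegularPart, IsPRegular, hx, not_false_eq_true, if_true]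
  have ho := (orderOf_pos x).ne'
  have hval : ∀ j, (mult (χ : G → ℂ) (eigIdem M x j) : ℂ) = (invO M (orderOf x) : ℂ) *
      ∑ t ∈ Finset.range (orderOf x),
        ((localRing M).subtype (((rootO M (orderOf x) ^ (orderOf x - 1)) ^ j) ^ t)) *
          (χ : G → ℂ) (x ^ t) := fun j => by
    rw [mult_cast hM χ (eigIdem_sq hM hx j),
      sv_eq hM χ (isPPart_one hM) (eigIdem_sq hM hx j) (invUnder_one _) (eigO_sq hM hx j)
        (invUnder_one _) rfl, eigO, tr_smul, tr_sum]
    congr 1
    refine Finset.sum_congr rfl fun t _ => ?_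
    rw [single_pow, tr_single, mul_one]
    rfl
  have hinv := inversion (localRing M).subtype ho (isPrimitiveRoot_rootO M ho)
    (fun t => (χ : G → ℂ) (x ^ t))
  calc ∑ j ∈ Finset.range (orderOf x),
      (rootO M (orderOf x) : ℂ) ^ j * (mult (χ : G → ℂ) (eigIdem M x j) : ℂ)
      = (invO M (orderOf x) : ℂ) * ∑ j ∈ Finset.range (orderOf x),
          (localRing M).subtype (rootO M (orderOf x) ^ j) * ∑ t ∈ Finset.range (orderOf x),
            ((localRing M).subtype (((rootO M (orderOf x) ^ (orderOf x - 1)) ^ j) ^ t)) *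
              (χ : G → ℂ) (x ^ t) := by
        rw [Finset.mul_sum]
        refine Finset.sum_congr rfl fun j _ => ?_
        rw [hval, map_pow, Subring.subtype_apply]
        ring
    _ = (χ : G → ℂ) x := by
        rw [hinv, ← mul_assoc, pow_mod_orderOf, pow_one]
        have := congrArg Subtype.val (invO_mul_natCast hM hx)
        push_cast at this
        rw [this, one_mul]

end CfsgLib.IBr
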