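import Cfsg.Agent.Lib.Blocks.Brauer.Data
import Cfsg.Agent.Lib.Char.Brauer
import Cfsg.Agent.Lib.Blocks.Union
import Cfsg.Agent.Lib.OddLocal.FittingHall
import Mathlib.RepresentationTheory.Maschke
import Mathlib.RingTheory.SimpleModule.Basic

/-!
# Brauer characters are integral combinations of restricted ordinary characters

For a group of order prime to `p` the Brauer characters are the irreducible characters.  By Brauer's
characterization of generalized characters `g ↦ phi δ (g_p')` is a generalized character, so each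
Brauer character is an integral combination of the restrictions of the characters in its block.
-/

set_option autoImplicit false

universe u

namespace CfsgLib.IBr

open Cfsg MonoidAlgebra CfsgLib.Blocks CfsgLib.Pairs CfsgLib.Star

variable {G : Type u} [Group G] [Fintype G] {p : ℕ} [Fact p.Prime] {M : Ideal AlgInt} [M.IsPrime]

/-- In a group of order prime to `p` every Brauer character is an irreducible character. -/
theorem phi_isIrr_of_not_dvd (hM : IsPModular p M) (D : Data G M) (hG : ¬ p ∣ Nat.card G)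
    (δ : Fin D.n) : IsIrrCharacter G (D.phi p δ) := by
  classical
  have := Fintype.ofFinite (IrrCharacter G)
  have := charP_residueField hM
  have hreg : ∀ x : G, ¬ p ∣ orderOf x := fun x h => hG (h.trans (orderOf_dvd_natCard x))
  have hcl : ∀ δ, ∃ χ : IrrCharacter G, D.block hM δ = {χ} := fun δ => by
    obtain ⟨χ, hχ⟩ := IsPBlock.nonempty (D.isPBlock_block hM δ)
    refine ⟨χ, (IsPBlock.eq_blockOf (D.isPBlock_block hM δ) hχ).trans (blockOf_eq_singleton hM χ ?_)⟩
    exact fun h => hG (h.trans (Nat.div_dvd_of_dvd (charDegree_dvd_card χ)))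
  have hblock : ∀ χ : IrrCharacter G, IsPBlock M ({χ} : Set (IrrCharacter G)) := fun χ => ⟨χ,
    (blockOf_eq_singleton hM χ fun h => hG (h.trans (Nat.div_dvd_of_dvd (charDegree_dvd_card χ)))).symm⟩
  have hone : ∀ χ : IrrCharacter G, Nat.card {δ : Fin D.n // D.block hM δ = {χ}} = 1 := fun χ => by
    rw [D.card_block_eq hM (hblock χ), blockRank, Set.image_singleton]
    refine finrank_span_singleton fun h => Char.IsIrr.apply_one_ne_zero χ.2 ?_
    have := congrFun h 1
    simpa [pRegularPart, IsPRegular, hreg, hM.1.ne_one] using this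
  choose f hf using hcl
  have hinj : Function.Injective f := fun a b hab => by
    have h := Finite.card_le_one_iff_subsingleton.1 (hone (f a)).le
    exact congrArg Subtype.val (@Subsingleton.elim _ h ⟨a, hf a⟩ ⟨b, by rw [hf b, hab]⟩)
  have hsurj : Function.Surjective f := fun χ => by
    obtain ⟨⟨δ, hδ⟩⟩ := (Nat.card_pos_iff.1 (by rw [hone χ]; exact one_pos :
      0 < Nat.card {δ : Fin D.n // D.block hM δ = {χ}})).1
    exact ⟨δ, Set.singleton_injective ((hf δ).symm.trans hδ)⟩
  have hdec : ∀ δ δ', δ' ≠ δ → D.dec (f δ) δ' = 0 := fun δ δ' hne =>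
    D.dec_eq_zero_of_ne hM (hblock (f δ)) rfl fun h => hne (hinj
      (Set.singleton_injective ((hf δ').symm.trans h)))
  have hchi : ∀ δ, (f δ : G → ℂ) = (D.dec (f δ) δ : ℂ) • D.phi p δ := fun δ => by
    have h := D.pRegularPart_eq_sum hM (f δ)
    rw [Finset.sum_eq_single δ (fun b _ hb => by rw [hdec δ b hb, Nat.cast_zero, zero_smul])
      (fun h => absurd (Finset.mem_univ _) h)] at h
    rw [← h]
    funext x
    simp [pRegularPart, IsPRegular, hreg]
  have hdeg : ∀ δ, charDegree (f δ : G → ℂ) = D.dec (f δ) δ * D.d δ := fun δ => by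
    have h := congrFun (hchi δ) 1
    rw [apply_one_eq_charDegree, Pi.smul_apply, D.phi_one hM, smul_eq_mul] at h
    exact_mod_cast h
  have : NeZero (Nat.card G : Res M) := ⟨fun h => hG ((CharP.cast_eq_zero_iff (Res M) p _).1 h)⟩
  have hψinj : Function.Injective D.ψ := by
    refine (injective_iff_map_eq_zero D.ψ).2 fun x hx => ?_
    obtain ⟨e, he, heI⟩ := IsSemisimpleRing.ideal_eq_span_idempotent (RingHom.ker D.ψ.toRingHom)
    have hek : D.ψ e = 0 := RingHom.mem_ker.1 (heI ▸ Ideal.mem_span_singleton_self e)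
    rw [IsIdempotentElem.eq_zero_of_isNilpotent he (D.nil e hek), Ideal.span_singleton_eq_bot.2 rfl]
      at heI
    exact (Submodule.mem_bot _).1 (heI ▸ RingHom.mem_ker.2 hx)
  have hdim : Nat.card G = ∑ δ, D.d δ * D.d δ := by
    have h := (LinearEquiv.ofBijective D.ψ.toLinearMap ⟨hψinj, D.surj⟩).finrank_eq
    rw [Module.finrank_eq_card_basis (MonoidAlgebra.basis G (Res M)), Module.finrank_pi_fintype] at h
    simpa [Module.finrank_matrix] using h
  have hsq : Nat.card G = ∑ δ, (D.dec (f δ) δ * D.d δ) * (D.dec (f δ) δ * D.d δ) := by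
    have h := Char.sum_sq_degree (G := G)
    rw [← Equiv.sum_comp (Equiv.ofBijective f ⟨hinj, hsurj⟩)] at h
    refine Nat.cast_injective (R := ℂ) ?_
    rw [← h]
    push_cast
    refine Finset.sum_congr rfl fun δ _ => ?_
    show (f δ : G → ℂ) 1 ^ 2 = _
    rw [apply_one_eq_charDegree, hdeg]
    push_cast
    ring
  have hm : ∀ δ, D.dec (f δ) δ = 1 := by
    have hpos : ∀ δ, 1 ≤ D.dec (f δ) δ := fun δ => by
      have := charDegree_pos (f δ)
      rw [hdeg] at this
      exact Nat.one_le_iff_ne_zero.2 (left_ne_zero_of_mul this.ne')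
    intro δ
    by_contra hne
    have hlt : D.d δ * D.d δ < (D.dec (f δ) δ * D.d δ) * (D.dec (f δ) δ * D.d δ) := by
      have hd := Nat.pos_of_ne_zero (NeZero.ne (D.d δ))
      have h2 : 2 ≤ D.dec (f δ) δ := by have := hpos δ; omega
      have : 2 * D.d δ ≤ D.dec (f δ) δ * D.d δ := Nat.mul_le_mul_right _ h2
      exact Nat.mul_self_lt_mul_self (by omega)
    have := Finset.sum_lt_sum (f := fun δ => D.d δ * D.d δ)
      (g := fun δ => (D.dec (f δ) δ * D.d δ) * (D.dec (f δ) δ * D.d δ))
      (fun b _ => Nat.mul_self_le_mul_self (Nat.le_mul_of_pos_left _ (hpos b)))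
      ⟨δ, Finset.mem_univ _, hlt⟩
    omega
  have h := hchi δ
  rw [hm δ, Nat.cast_one, one_smul] at h
  exact h ▸ (f δ).2

omit [Fintype G] [Fact p.Prime] in
theorem brVal_eq_sum [Fintype G] (hM : IsPModular p M) (D : Data G M)
    {N : MonoidAlgebra (Res M) G → ℤ}
    (hN : ∀ e, e * e = e → N e = ∑ δ, D.rk δ e * N (D.ε δ)) :
    brVal p M N = ∑ δ, (N (D.ε δ) : ℂ) • D.phi p δ := by
  funext x
  rw [Finset.sum_apply]
  by_cases hx : p ∣ orderOf x
  · simp [brVal_of_singular hx, D.phi_singular _ hx]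
  simp only [Pi.smul_apply, smul_eq_mul, Data.phi, brVal_of_regular hx, Finset.mul_sum]
  rw [Finset.sum_comm]
  refine Finset.sum_congr rfl fun j _ => ?_
  rw [hN _ (eigIdem_sq hM hx j)]
  push_cast
  rw [Finset.mul_sum]
  exact Finset.sum_congr rfl fun δ _ => by ring

/-- A Brauer character restricted to a subgroup of order prime to `p` is a generalized
character. -/
theorem phi_restrict_isGen (hM : IsPModular p M) (D : Data G M) (δ : Fin D.n) (Q : Subgroup G)
    [Fintype Q] (hQ : ¬ p ∣ Nat.card Q) :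
    IsGeneralizedCharacter Q (fun q : Q => D.phi p δ q) := by
  obtain ⟨DQ⟩ := nonempty_data (G := Q) (M := M)
  set ι := MonoidAlgebra.mapDomainAlgHom (Res M) (Res M) Q.subtype with hι
  set N : MonoidAlgebra (Res M) Q → ℤ := fun e => D.rk δ (ι e)
  have hN : ∀ e, e * e = e → N e = ∑ δ', DQ.rk δ' e * N (DQ.ε δ') :=
    additive_eq_sum_rank DQ.surj DQ.nil DQ.hε DQ.hεψ N
      (fun e f he hf hef hfe => by
        simp only [N, map_add]
        exact D.rk_add δ _ _ (by rw [← map_mul, he]) (by rw [← map_mul, hf])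
          (by rw [← map_mul, hef, map_zero]) (by rw [← map_mul, hfe, map_zero]))
      (fun a c h1 h2 => by
        simp only [N, map_mul]
        exact D.rk_equiv δ _ _ (by simp only [← map_mul, h1]) (by simp only [← map_mul, h2]))
  have heq : (fun q : Q => D.phi p δ q) = brVal p M N := by
    funext q
    by_cases hq : p ∣ orderOf q
    · exact absurd (hq.trans (orderOf_dvd_natCard q)) hQ
    rw [Data.phi, brVal_of_regular hq, brVal_of_regular (by rwa [Subgroup.orderOf_coe]),
      Subgroup.orderOf_coe]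
    refine Finset.sum_congr rfl fun j _ => ?_
    congr 2
    show D.rk δ (eigIdem M (q : G) j) = D.rk δ (ι (eigIdem M q j))
    congr 1
    simp only [eigIdem, eigO, Subgroup.orderOf_coe, Algebra.smul_def, map_mul, map_sum, single_pow,
      red_single, hι, MonoidAlgebra.mapDomainAlgHom_apply]
    refine congrArg₂ (· * ·) ?_ (Finset.sum_congr rfl fun t _ => ?_)
    · simp [red, MonoidAlgebra.one_def]
    · simp
  rw [heq, brVal_eq_sum hM DQ hN]
  refine Char.IsGen.sum _ _ fun δ' _ => ?_
  exact Char.IsGen.intCast_smul _ (Char.IsGen.of_irr (phi_isIrr_of_not_dvd hM DQ hQ δ'))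

omit [M.IsPrime] in
theorem pPt_conj (g h : G) : pPt p (h * g * h⁻¹) = h * pPt p g * h⁻¹ := by
  obtain ⟨u, s, hu, hs, hc, rfl⟩ := exists_decomp (p := p) g
  rw [pPt_mul hu hs hc, show h * (u * s) * h⁻¹ = (h * u * h⁻¹) * (h * s * h⁻¹) by group]
  exact pPt_mul (by simpa [show orderOf (h * u * h⁻¹) = orderOf u from
      MulEquiv.orderOf_eq (MulAut.conj h) u] using hu)
    (by rwa [show orderOf (h * s * h⁻¹) = orderOf s from MulEquiv.orderOf_eq (MulAut.conj h) s])
    (hc.map (MulAut.conj h))

/-- The extension of a Brauer character by the regular part is a generalized character. -/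
theorem phi_ext_isGen (hM : IsPModular p M) (D : Data G M) (δ : Fin D.n) :
    IsGeneralizedCharacter G (fun g => D.phi p δ ((pPt p g)⁻¹ * g)) := by
  classical
  refine Brauer.isGeneralizedCharacter_of_elementary (fun g h => ?_) fun E q hq hE => ?_
  · rw [pPt_conj, show (h * pPt p g * h⁻¹)⁻¹ * (h * g * h⁻¹) = h * ((pPt p g)⁻¹ * g) * h⁻¹ by group,
      D.phi_isClassFunction hM δ]
  have hnil := Brauer.isNilpotent_of_isElementary hq hE
  have hcom : ∀ {a b : E} {k : ℕ}, orderOf a = p ^ k → ¬ p ∣ orderOf b → Commute a b :=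
    fun {a b k} ha hb => OddLocal.commute_of_coprime_orderOf hnil (by
      rw [ha]
      exact Nat.Coprime.pow_left k ((Nat.Prime.coprime_iff_not_dvd Fact.out).2 hb))
  let s : E → E := fun e => (pPt p e)⁻¹ * e
  have hs : ∀ e : E, ¬ p ∣ orderOf (s e) := fun e => by
    obtain ⟨u, t, hu, ht, hc, rfl⟩ := exists_decomp (p := p) e
    simpa [s, pPt_mul hu ht hc] using ht
  obtain ⟨P⟩ : Nonempty (Sylow p E) := inferInstance
  have hPn : (P : Subgroup E).Normal :=
    P.normal_of_normalizerCondition Group.normalizerCondition_of_isNilpotent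
  have hPmem : ∀ v : E, (∃ k, orderOf v = p ^ k) → v ∈ (P : Subgroup E) := fun v ⟨k, hk⟩ => by
    obtain ⟨P', hP'⟩ := IsPGroup.exists_le_sylow (IsPGroup.of_card (n := k)
      (by rw [Nat.card_zpowers, hk]) : IsPGroup p (Subgroup.zpowers v))
    have := Sylow.unique_of_normal P hPn
    rw [Subsingleton.elim P P']
    exact hP' (Subgroup.mem_zpowers v)
  obtain ⟨K, hPK⟩ := Subgroup.exists_right_complement'_of_coprime (N := (P : Subgroup E))
    P.card_coprime_index
  have hKcard : ¬ p ∣ Nat.card K := by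
    have h := hPK.index_eq_card
    intro hdiv
    exact P.not_dvd_index (by rw [hPK.symm.index_eq_card]; exact hdiv)
  have hK : ∀ v ∈ K, ¬ p ∣ orderOf v := fun v hv hd =>
    hKcard (hd.trans (Subgroup.orderOf_dvd_natCard K hv))
  have hKmem : ∀ t : E, ¬ p ∣ orderOf t → t ∈ K := fun t ht => by
    obtain ⟨⟨a, b⟩, hab⟩ := hPK.2 t
    dsimp only at hab
    obtain ⟨k, hk⟩ := IsPGroup.iff_orderOf.1 P.isPGroup' a
    rw [← Subgroup.orderOf_coe] at hk
    have h1 : pPt p t = a := by
      rw [← hab]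
      exact pPt_mul ⟨k, hk⟩ (hK _ b.2) (hcom hk (hK _ b.2))
    have h2 : pPt p t = 1 := by
      simpa using pPt_mul (p := p) (u := (1 : E)) (s := t) ⟨0, by simp⟩ ht (Commute.one_left t)
    rw [← hab, ← h1, h2, one_mul]
    exact b.2
  have hsmul : ∀ a b : E, s (a * b) = s a * s b := fun a b => by
    obtain ⟨u, t, ⟨i, hu⟩, ht, hc, rfl⟩ := exists_decomp (p := p) a
    obtain ⟨u', t', ⟨j, hu'⟩, ht', hc', rfl⟩ := exists_decomp (p := p) b
    have hct : Commute t u' := (hcom hu' ht).symm
    have hct' : Commute u t' := hcom hu ht'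
    have hprod : u * t * (u' * t') = (u * u') * (t * t') := by
      rw [mul_assoc, ← mul_assoc t u', hct.eq, mul_assoc, mul_assoc]
    have hP : ∃ k, orderOf (u * u') = p ^ k := by
      obtain ⟨k, hk⟩ := IsPGroup.iff_orderOf.1 P.isPGroup'
        ⟨u * u', mul_mem (hPmem u ⟨i, hu⟩) (hPmem u' ⟨j, hu'⟩)⟩
      exact ⟨k, by rwa [← Subgroup.orderOf_coe] at hk⟩
    have hQ : ¬ p ∣ orderOf (t * t') ∧ Commute (u * u') (t * t') :=
      ⟨hK _ (mul_mem (hKmem t ht) (hKmem t' ht')),
        ((hcom hu ht).mul_right hct').mul_left ((hcom hu' ht).mul_right hc')⟩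
    show (pPt p _)⁻¹ * _ = (pPt p _)⁻¹ * _ * ((pPt p _)⁻¹ * _)
    rw [hprod, pPt_mul hP hQ.1 hQ.2, pPt_mul ⟨i, hu⟩ ht hc, pPt_mul ⟨j, hu'⟩ ht' hc']
    group
  let Q : Subgroup E := (MonoidHom.mk' s hsmul).range
  have hQp : ¬ p ∣ Nat.card Q := fun h => by
    obtain ⟨⟨v, e, rfl⟩, hv⟩ := exists_prime_orderOf_dvd_card' p h
    rw [← Subgroup.orderOf_coe] at hv
    exact hs e (by rw [show orderOf (s e) = p from hv])
  let Q' : Subgroup G := Q.map E.subtype
  have hQ'p : ¬ p ∣ Nat.card Q' := by
    rwa [Subgroup.card_map_of_injective E.subtype_injective]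
  have h := phi_restrict_isGen hM D δ Q' hQ'p
  let f : E →* Q' := MonoidHom.codRestrict (E.subtype.comp (MonoidHom.mk' s hsmul)) Q'
    fun e => ⟨s e, ⟨e, rfl⟩, rfl⟩
  have hfun : (fun e : E => D.phi p δ ((pPt p (e : G))⁻¹ * e)) =
      (fun q : Q' => D.phi p δ q) ∘ f := by
    funext e
    show _ = D.phi p δ ((s e : E) : G)
    obtain ⟨u, t, hu, ht, hc, rfl⟩ := exists_decomp (p := p) e
    show _ = D.phi p δ ((((pPt p (u * t))⁻¹ * (u * t) : E)) : G)
    rw [pPt_mul hu ht hc, Subgroup.coe_mul E u t,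
      pPt_mul (show ∃ k, orderOf (u : G) = p ^ k by simpa using hu) (show ¬ p ∣ orderOf (t : G) by simpa using ht)
      (hc.map E.subtype)]
    simp
  rw [hfun]
  exact Char.IsGen.comp f h

/-- Each Brauer character is an integral combination of the restrictions in its block. -/
theorem exists_int_combination [Fintype (IrrCharacter G)] (hM : IsPModular p M) (D : Data G M)
    (δ : Fin D.n) : ∃ c : IrrCharacter G → ℤ, (∀ χ, c χ ≠ 0 → χ ∈ D.block hM δ) ∧
      D.phi p δ = ∑ χ, (c χ : ℂ) • pRegularPart p (χ : G → ℂ) := by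
  classical
  obtain ⟨m, hm⟩ := Char.IsGen.exists_sum (phi_ext_isGen hM D δ)
  have h0 : D.phi p δ = ∑ χ, (m χ : ℂ) • pRegularPart p (χ : G → ℂ) := by
    funext x
    rw [Finset.sum_apply]
    by_cases hx : p ∣ orderOf x
    · simp [D.phi_singular δ hx, pRegularPart, IsPRegular, hx]
    · have hpx : pPt p x = 1 := by
        simpa using pPt_mul (p := p) (u := (1 : G)) (s := x) ⟨0, by simp⟩ hx (Commute.one_left x)
      have h := congrFun hm x
      simp only [hpx, inv_one, one_mul] at h
      rw [h]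
      simp [pRegularPart, IsPRegular, hx, Finset.sum_apply]
  refine ⟨fun χ => if χ ∈ D.block hM δ then m χ else 0, fun χ hχ => ?_, ?_⟩
  · by_contra hne
    exact hχ (if_neg hne)
  · rw [D.combination_block hM δ h0, Finset.sum_filter]
    refine Finset.sum_congr rfl fun χ _ => ?_
    by_cases h : χ ∈ D.block hM δ <;> simp [h]

end CfsgLib.IBr
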