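import Cfsg.Agent.Lib.Blocks.Brauer.Data
import Mathlib.Algebra.Group.Conj
import Mathlib.LinearAlgebra.Dimension.Finrank

/-!
# As many irreducible Brauer characters as `p`-regular classes
-/

set_option autoImplicit false

universe u

namespace CfsgLib.IBr.Data

open Cfsg CfsgLib.Blocks CfsgLib.Pairs CfsgLib.Star

variable {G : Type u} [Group G] [Fintype G] {p : ℕ} [Fact p.Prime] {M : Ideal AlgInt} [M.IsPrime]

theorem n_eq_card_regularClasses (hM : IsPModular p M) (D : Data G M) :
    D.n = Nat.card {c : ConjClasses G // ∃ g : G, ConjClasses.mk g = c ∧ ¬ p ∣ orderOf g} := by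
  classical
  let C := {c : ConjClasses G // ∃ g : G, ConjClasses.mk g = c ∧ ¬ p ∣ orderOf g}
  have := Fintype.ofFinite (IrrCharacter G)
  have := Fintype.ofFinite C
  let L : (C → ℂ) →ₗ[ℂ] (G → ℂ) :=
    { toFun := fun w g => if h : ¬ p ∣ orderOf g then w ⟨ConjClasses.mk g, g, rfl, h⟩ else 0
      map_add' := fun a b => funext fun g => by by_cases h : p ∣ orderOf g <;> simp [h]
      map_smul' := fun t a => funext fun g => by by_cases h : p ∣ orderOf g <;> simp [h] }
  have hL : Function.Injective L := fun a b e => funext fun c => by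
    obtain ⟨c, g, rfl, hg⟩ := c
    simpa [L, hg] using congrFun e g
  have hLclass : ∀ w, IsClassFunction G (L w) := by
    intro w x h
    have ho : orderOf (h * x * h⁻¹) = orderOf x := MulEquiv.orderOf_eq (MulAut.conj h) x
    by_cases hx : p ∣ orderOf x
    · simp [L, hx, ho]
    · have e : ConjClasses.mk (h * x * h⁻¹) = ConjClasses.mk x :=
        ConjClasses.mk_eq_mk_iff_isConj.2 (isConj_iff.2 ⟨h⁻¹, by group⟩)
      simp [L, hx, ho, e]
  have hrange : LinearMap.range L = Submodule.span ℂ (Set.range (D.phi p)) := by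
    refine le_antisymm ?_ (Submodule.span_le.2 ?_)
    · rintro _ ⟨w, rfl⟩
      have hsum : L w = ∑ χ : IrrCharacter G, classInner (L w) (χ : G → ℂ) • pRegularPart p (χ : G → ℂ) := by
        funext g
        rw [Finset.sum_apply]
        by_cases hg : p ∣ orderOf g
        · simp [L, pRegularPart, IsPRegular, hg]
        · rw [Char.classFunction_apply_eq_sum (hLclass w) g]
          simp [pRegularPart, IsPRegular, hg]
      rw [hsum]
      refine sum_mem fun χ _ => Submodule.smul_mem _ _ ?_
      rw [D.pRegularPart_eq_sum hM χ]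
      exact sum_mem fun δ _ => Submodule.smul_mem _ _ (Submodule.subset_span ⟨δ, rfl⟩)
    · rintro _ ⟨δ, rfl⟩
      refine ⟨fun c => D.phi p δ c.2.choose, funext fun g => ?_⟩
      by_cases hg : p ∣ orderOf g
      · simp [L, hg, D.phi_singular δ hg]
      · have hex : ∃ g' : G, ConjClasses.mk g' = ConjClasses.mk g ∧ ¬ p ∣ orderOf g' := ⟨g, rfl, hg⟩
        obtain ⟨b, hb⟩ := isConj_iff.1 (ConjClasses.mk_eq_mk_iff_isConj.1 hex.choose_spec.1)
        simp only [L, LinearMap.coe_mk, AddHom.coe_mk, dif_pos hg]
        show D.phi p δ hex.choose = _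
        have := D.phi_isClassFunction hM δ hex.choose b
        rw [hb] at this
        exact this.symm
  have h1 := LinearMap.finrank_range_of_inj hL
  rw [hrange, finrank_span_eq_card (D.linearIndependent_phi hM), Fintype.card_fin, Module.finrank_pi] at h1
  rw [h1, Nat.card_eq_fintype_card]

end CfsgLib.IBr.Data
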